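import Groth.Agent.CMFlatLib.Chart
import Groth.Agent.DimFormulaLib.Misc
import Groth.Agent.DimFormulaLib.Catenary

/-!
The Cohen–Macaulay locus is open and the fibre dimension is locally constant on it.
-/

set_option autoImplicit false

universe u

open CategoryTheory AlgebraicGeometry TopologicalSpace

namespace Groth.Agent.CMFlatLib

open DimFormulaLib

theorem isOpen_flat_atPrime {A B : Type u} [CommRing A] [CommRing B] [Algebra A B] [Algebra.FinitePresentation A B] :
    IsOpen {P : PrimeSpectrum B | Module.Flat A (Localization.AtPrime P.asIdeal)} := by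
  haveI : LocallyOfFinitePresentation (Spec.map (CommRingCat.ofHom (algebraMap A B))) :=
    HasRingHomProperty.Spec_iff.2 (RingHom.finitePresentation_algebraMap.2 ‹_›)
  have h := FlatLocus.isOpen_flat_stalkMap (Spec.map (CommRingCat.ofHom (algebraMap A B)))
  suffices he : {P : PrimeSpectrum B | Module.Flat A (Localization.AtPrime P.asIdeal)} =
      {P : PrimeSpectrum B | ((Spec.map (CommRingCat.ofHom (algebraMap A B))).stalkMap P).hom.Flat} by
    rw [he]; exact h
  refine Set.ext fun P => ?_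
  haveI : P.asIdeal.LiesOver (PrimeSpectrum.comap (algebraMap A B) P).asIdeal := ⟨rfl⟩
  exact ((spec_stalkMap_iff RingHom.Flat.respectsIso (algebraMap A B) P).trans
    (localRingHom_flat_iff (PrimeSpectrum.comap (algebraMap A B) P).asIdeal P.asIdeal)).symm

variable {X Y : Scheme.{u}}

theorem exists_nat_fibreDimAt (f : X ⟶ Y) [LocallyOfFiniteType f] (x : X) :
    ∃ n : ℕ, FlatMor.fibreDimAt f x = (n : WithBot ℕ∞) := by
  obtain ⟨c⟩ := exists_chart f x
  obtain ⟨n, hn⟩ := c.exists_nat_fibreDimAt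
  exact ⟨n, c.fibreDimAt_eq.trans hn⟩

/-- Near a Cohen–Macaulay point: a chart with a flat quasi-finite map to affine space. -/
theorem exists_chart_flat (f : X ⟶ Y) [LocallyOfFinitePresentation f] (x : X) (n : ℕ)
    (h : MoreMor.IsCMAt f x) (hn : FlatMor.fibreDimAt f x = n) :
    ∃ (c : Chart f x) (φ : MvPolynomial (Fin n) c.A →ₐ[c.A] c.B) (g : c.B), g ∉ c.q.asIdeal ∧
      ∀ P : PrimeSpectrum c.B, g ∉ P.asIdeal →
        letI := φ.toRingHom.toAlgebra
        Algebra.QuasiFiniteAt (MvPolynomial (Fin n) c.A) P.asIdeal ∧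
          Module.Flat (MvPolynomial (Fin n) c.A) (Localization.AtPrime P.asIdeal) := by
  obtain ⟨c⟩ := exists_chart f x
  haveI := chart_finitePresentation c
  obtain ⟨g₀, hg₀, φ, hqf⟩ := exists_quasiFinite_nhd c.q.asIdeal c.p.asIdeal c.Q c.comap_Q n
    (c.fibreDimAt_eq.symm.trans hn)
  letI := φ.toRingHom.toAlgebra
  haveI : IsScalarTower c.A (MvPolynomial (Fin n) c.A) c.B := .of_algebraMap_eq fun a => (φ.commutes a).symm
  haveI := hqf c.q.asIdeal hg₀
  have hflat := (isCMAt_and_dim_iff c).1 ⟨h, hn⟩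
  haveI : Algebra.FinitePresentation (MvPolynomial (Fin n) c.A) c.B :=
    Algebra.FinitePresentation.of_restrict_scalars_finitePresentation c.A _ _
  obtain ⟨_, ⟨g₁, rfl⟩, hg₁, hsub⟩ := PrimeSpectrum.isTopologicalBasis_basic_opens.exists_subset_of_mem_open
    (show c.q ∈ {P : PrimeSpectrum c.B | Module.Flat (MvPolynomial (Fin n) c.A) (Localization.AtPrime P.asIdeal)} from hflat)
    (isOpen_flat_atPrime (A := MvPolynomial (Fin n) c.A) (B := c.B))
  exact ⟨c, φ, g₀ * g₁, fun hm => (c.q.isPrime.mem_or_mem hm).elim hg₀ hg₁, fun P hP =>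
    ⟨hqf P.asIdeal fun h' => hP (P.asIdeal.mul_mem_right _ h'), hsub fun h' => hP (P.asIdeal.mul_mem_left _ h')⟩⟩

theorem exists_nhd_isCMAt (f : X ⟶ Y) [LocallyOfFinitePresentation f] (x : X) (n : ℕ)
    (h : MoreMor.IsCMAt f x) (hn : FlatMor.fibreDimAt f x = n) :
    ∃ V : X.Opens, x ∈ V ∧ ∀ x' ∈ V, MoreMor.IsCMAt f x' ∧ FlatMor.fibreDimAt f x' = n := by
  obtain ⟨c, φ, g, hg, hP⟩ := exists_chart_flat f x n h hn
  refine ⟨c.j ''ᵁ PrimeSpectrum.basicOpen g, ⟨c.q, hg, c.hq⟩, ?_⟩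
  rintro _ ⟨P, hPg, rfl⟩
  obtain ⟨hqf, hflat⟩ := hP P hPg
  letI : Algebra (MvPolynomial (Fin n) (c.move P).A) (c.move P).B := φ.toRingHom.toAlgebra
  haveI : IsScalarTower (c.move P).A (MvPolynomial (Fin n) (c.move P).A) (c.move P).B :=
    .of_algebraMap_eq fun a => (φ.commutes a).symm
  haveI : Algebra.QuasiFiniteAt (MvPolynomial (Fin n) (c.move P).A) (c.move P).q.asIdeal := hqf
  exact (isCMAt_and_dim_iff (c.move P)).2 hflat

theorem isOpen_isCMAt (f : X ⟶ Y) [LocallyOfFinitePresentation f] : IsOpen {x : X | MoreMor.IsCMAt f x} := by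
  refine isOpen_iff_forall_mem_open.2 fun x hx => ?_
  obtain ⟨n, hn⟩ := exists_nat_fibreDimAt f x
  obtain ⟨V, hxV, hV⟩ := exists_nhd_isCMAt f x n hx hn
  exact ⟨V, fun x' h => (hV x' h).1, V.isOpen, hxV⟩

theorem isLocallyConstant_fibreDimAt (f : X ⟶ Y) [LocallyOfFinitePresentation f] (h : ∀ x, MoreMor.IsCMAt f x) :
    IsLocallyConstant (fun x : X => FlatMor.fibreDimAt f x) := by
  refine (IsLocallyConstant.iff_exists_open _).2 fun x => ?_
  obtain ⟨n, hn⟩ := exists_nat_fibreDimAt f x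
  obtain ⟨V, hxV, hV⟩ := exists_nhd_isCMAt f x n (h x) hn
  exact ⟨V, V.isOpen, hxV, fun x' h' => ((hV x' h').2).trans hn.symm⟩

theorem cm_of_dim_zero {R : Type u} [CommRing R] [IsLocalRing R] [IsNoetherianRing R] (h : ringKrullDim R ≤ 0) :
    LocCoh.IsCohenMacaulayLocalRing R :=
  CMGraded.isCohenMacaulayLocalRing_of_seq (rs := []) (fun _ h => absurd h (List.not_mem_nil))
    (RingTheory.Sequence.IsWeaklyRegular.nil R R) (by simpa using h)

theorem dense_isCMAt (f : X ⟶ Y) [Flat f] [LocallyOfFiniteType f] (s : Y) :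
    Dense ((f.fiberι s) ⁻¹' {x : X | MoreMor.IsCMAt f x}) := by
  intro z
  obtain ⟨η, hηz, hη⟩ := exists_maximal_point z
  refine specializes_iff_mem_closure.1 hηz |> fun h => closure_mono (Set.singleton_subset_iff.2 ?_) h
  show MoreMor.IsCMAt f (f.fiberι s η)
  haveI : LocallyOfFiniteType (f.fiberToSpecResidueField s) := MorphismProperty.pullback_snd _ _ inferInstance
  haveI : IsLocallyNoetherian (f.fiber s) := LocallyOfFiniteType.isLocallyNoetherian (f.fiberToSpecResidueField s)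
  refine (isCMAt_iff f _).2 ⟨Flat.stalkMap f _, (cm_fibre_stalk_iff f s η).1 (cm_of_dim_zero ?_)⟩
  rw [ringKrullDim_stalk_eq_coheight, Order.coheight_eq_zero.2 (show IsMax η from fun w hw =>
    (Scheme.le_iff_specializes.2 (by rw [hη w (Scheme.le_iff_specializes.1 hw)])))]
  rfl

theorem dim_fibre_stalk {X Y : Scheme.{u}} (f : X ⟶ Y) (x : X) :
    ringKrullDim ((f.fiber (f x)).presheaf.stalk (f.asFiber x)) =
      ringKrullDim (X.presheaf.stalk x ⧸ (IsLocalRing.maximalIdeal (Y.presheaf.stalk (f x))).map (f.stalkMap x).hom) := by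
  have key : ∀ x' : X, x' = x →
      ringKrullDim (X.presheaf.stalk x' ⧸ (IsLocalRing.maximalIdeal (Y.presheaf.stalk (f x'))).map (f.stalkMap x').hom) =
      ringKrullDim (X.presheaf.stalk x ⧸ (IsLocalRing.maximalIdeal (Y.presheaf.stalk (f x))).map (f.stalkMap x).hom) := by
    rintro x' rfl; rfl
  rw [← key _ (f.fiberι_asFiber x)]
  exact (ringKrullDim_eq_of_ringEquiv ((Ideal.quotEquivOfEq (FlatLocus.ker_fiberι_stalkMap f _ _).symm).trans
    (RingHom.quotientKerEquivOfSurjective (f := ((f.fiberι (f x)).stalkMap (f.asFiber x)).hom)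
      (FlatLocus.fiberι_stalkMap_surjective f _ _)))).symm

theorem stalk_dim_eq (f : X ⟶ Y) [IsLocallyNoetherian X] [IsLocallyNoetherian Y] (x : X)
    (h : (f.stalkMap x).hom.Flat) :
    ringKrullDim (X.presheaf.stalk x) = ringKrullDim (Y.presheaf.stalk (f x)) +
      ringKrullDim ((f.fiber (f x)).presheaf.stalk (f.asFiber x)) := by
  letI := (f.stalkMap x).hom.toAlgebra
  haveI hloc : IsLocalHom (algebraMap (Y.presheaf.stalk (f x)) (X.presheaf.stalk x)) :=
    inferInstanceAs (IsLocalHom (f.stalkMap x).hom)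
  haveI : Module.Flat (Y.presheaf.stalk (f x)) (X.presheaf.stalk x) := h
  haveI : (IsLocalRing.maximalIdeal (X.presheaf.stalk x)).LiesOver (IsLocalRing.maximalIdeal (Y.presheaf.stalk (f x))) :=
    ⟨(((IsLocalRing.local_hom_TFAE (algebraMap (Y.presheaf.stalk (f x)) (X.presheaf.stalk x))).out 0 4 rfl rfl).mp hloc).symm⟩
  let I := (IsLocalRing.maximalIdeal (Y.presheaf.stalk (f x))).map (algebraMap (Y.presheaf.stalk (f x)) (X.presheaf.stalk x))
  have hI : I ≠ ⊤ := fun h => (IsLocalRing.maximalIdeal.isMaximal (X.presheaf.stalk x)).ne_top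
    (top_le_iff.1 (h.ge.trans (IsLocalRing.map_maximalIdeal_le _)))
  haveI : Nontrivial (X.presheaf.stalk x ⧸ I) := Ideal.Quotient.nontrivial_iff.2 hI
  haveI : IsLocalRing (X.presheaf.stalk x ⧸ I) := .of_surjective' _ Ideal.Quotient.mk_surjective
  rw [dim_fibre_stalk, ← IsLocalRing.maximalIdeal_height_eq_ringKrullDim (R := X.presheaf.stalk x),
    ← IsLocalRing.maximalIdeal_height_eq_ringKrullDim (R := Y.presheaf.stalk (f x)),
    Ideal.height_eq_height_add_of_liesOver_of_hasGoingDown (IsLocalRing.maximalIdeal (Y.presheaf.stalk (f x)))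
      (IsLocalRing.maximalIdeal (X.presheaf.stalk x)), WithBot.coe_add]
  congr 1
  refine Eq.trans ?_ (IsLocalRing.maximalIdeal_height_eq_ringKrullDim (R := X.presheaf.stalk x ⧸ I))
  rw [maximalIdeal_quot hI]

end Groth.Agent.CMFlatLib
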