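import Groth.Agent.CMFlatLib.Locus

/-!
Cohen–Macaulay morphisms locally factor flat quasi-finitely through affine space.
-/

set_option autoImplicit false

universe u

open CategoryTheory AlgebraicGeometry TopologicalSpace

namespace Groth.Agent.CMFlatLib

open DimFormulaLib

theorem quasiFinite_away {T B : Type u} [CommRing T] [CommRing B] [Algebra T B] [Algebra.FiniteType T B] (g : B)
    (h : ∀ P : Ideal B, ∀ [P.IsPrime], g ∉ P → Algebra.QuasiFiniteAt T P) :
    Algebra.QuasiFinite T (Localization.Away g) := by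
  haveI : Algebra.FiniteType T (Localization.Away g) :=
    Algebra.FiniteType.trans ‹Algebra.FiniteType T B› inferInstance
  refine Algebra.QuasiFinite.iff_finite_comap_preimage_singleton.2 fun x => ?_
  let e := PrimeSpectrum.preimageOrderIsoFiber T (Localization.Away g) x
  haveI : IsNoetherianRing (x.asIdeal.Fiber (Localization.Away g)) :=
    Algebra.FiniteType.isNoetherianRing x.asIdeal.ResidueField _
  have hmin : ∀ Q : PrimeSpectrum (x.asIdeal.Fiber (Localization.Away g)), IsMin Q := fun Q Q' hle => by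
    obtain ⟨⟨P, hP⟩, rfl⟩ := e.surjective Q
    obtain ⟨⟨P', hP'⟩, rfl⟩ := e.surjective Q'
    have hle' : P' ≤ P := e.le_iff_le.1 hle
    have hgP : g ∉ P.asIdeal.under B := fun hg =>
      P.isPrime.ne_top (P.asIdeal.eq_top_of_isUnit_mem hg (IsLocalization.Away.algebraMap_isUnit g))
    haveI := h _ hgP
    have h1 : P'.asIdeal.under B = P.asIdeal.under B :=
      Algebra.QuasiFiniteAt.eq_of_le_of_under_eq (R := T) (Ideal.comap_mono hle') (by
        rw [Ideal.under_under, Ideal.under_under]
        exact (congrArg PrimeSpectrum.asIdeal hP').trans (congrArg PrimeSpectrum.asIdeal hP).symm)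
    have h2 : P' = P := PrimeSpectrum.localization_comap_injective (Localization.Away g) (Submonoid.powers g)
      (PrimeSpectrum.ext h1)
    subst h2
    exact le_rfl
  haveI : Finite (PrimeSpectrum (x.asIdeal.Fiber (Localization.Away g))) := by
    refine Set.finite_univ_iff.1 (((minimalPrimes.finite_of_isNoetherianRing _).preimage
      (f := PrimeSpectrum.asIdeal) (fun a _ b _ hab => PrimeSpectrum.ext hab)).subset fun Q _ => ?_)
    exact PrimeSpectrum.isMin_iff.1 (hmin Q)
  haveI := e.toEquiv.finite_iff.2 ‹_›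
  exact Set.toFinite _

theorem flat_of_localizations {T B : Type u} [CommRing T] [CommRing B] [Algebra T B]
    (h : ∀ (P : Ideal B) [P.IsMaximal], Module.Flat T (Localization.AtPrime P)) : Module.Flat T B :=
  Module.flat_of_isLocalized_maximal B B (fun P _ => Localization.AtPrime P)
    (fun P _ => Algebra.linearMap B (Localization.AtPrime P)) h

variable {Y : Scheme.{u}} {A : Type u} [CommRing A] (i : Spec (CommRingCat.of A) ⟶ Y) [IsOpenImmersion i] (n : ℕ)

/-- Affine space over an affine open, inside affine space over the base. -/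
noncomputable def theta : Spec (CommRingCat.of (MvPolynomial (Fin n) A)) ⟶ 𝔸(ULift.{u} (Fin n); Y) :=
  Spec.map (CommRingCat.ofHom (MvPolynomial.renameEquiv A Equiv.ulift.{u}).toRingEquiv.toRingHom) ≫
    (AffineSpace.SpecIso (ULift.{u} (Fin n)) (CommRingCat.of A)).inv ≫ AffineSpace.map _ i

instance : IsOpenImmersion (theta i n) := by
  haveI : IsOpenImmersion (AffineSpace.map (ULift.{u} (Fin n)) i) :=
    MorphismProperty.of_isPullback (AffineSpace.isPullback_map i).flip ‹IsOpenImmersion i›
  haveI : IsIso (CommRingCat.ofHom (MvPolynomial.renameEquiv A Equiv.ulift.{u}).toRingEquiv.toRingHom :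
      CommRingCat.of (MvPolynomial (ULift.{u} (Fin n)) A) ⟶ CommRingCat.of (MvPolynomial (Fin n) A)) :=
    (MvPolynomial.renameEquiv A Equiv.ulift.{u}).toRingEquiv.toCommRingCatIso.isIso_hom
  unfold theta
  infer_instance

theorem theta_over :
    theta i n ≫ (𝔸(ULift.{u} (Fin n); Y) ↘ Y) = Spec.map (CommRingCat.ofHom MvPolynomial.C) ≫ i := by
  simp only [theta, Category.assoc, AffineSpace.map_over, AffineSpace.SpecIso_inv_over_assoc]
  rw [← Spec.map_comp_assoc]
  rw [← CommRingCat.ofHom_comp]
  congr 3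
  exact RingHom.ext fun a => MvPolynomial.rename_C _ a

theorem theta_coord (k : ULift.{u} (Fin n)) :
    (theta i n).appTop (AffineSpace.coord Y k) = (Scheme.ΓSpecIso _).inv (MvPolynomial.X k.down) := by
  simp only [theta, Scheme.Hom.comp_appTop, CommRingCat.comp_apply, AffineSpace.map_appTop_coord]
  rw [AffineSpace.SpecIso_inv_appTop_coord, ← CommRingCat.comp_apply, ← Scheme.ΓSpecIso_inv_naturality, CommRingCat.comp_apply]
  congr 1
  exact MvPolynomial.rename_X _ _

theorem exists_eq_comp_theta {B : Type u} [CommRing B] [Algebra A B]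
    (h : Spec (CommRingCat.of B) ⟶ 𝔸(ULift.{u} (Fin n); Y))
    (hh : h ≫ (𝔸(ULift.{u} (Fin n); Y) ↘ Y) = Spec.map (CommRingCat.ofHom (algebraMap A B)) ≫ i) :
    ∃ φ : MvPolynomial (Fin n) A →ₐ[A] B, h = Spec.map (CommRingCat.ofHom φ.toRingHom) ≫ theta i n := by
  refine ⟨MvPolynomial.aeval fun k =>
    (Scheme.ΓSpecIso (CommRingCat.of B)).hom (h.appTop (AffineSpace.coord Y (ULift.up k))), ?_⟩
  refine AffineSpace.hom_ext ?_ fun k => ?_
  · rw [hh, Category.assoc, theta_over, ← Spec.map_comp_assoc]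
    congr 2
    ext a
    exact ((MvPolynomial.aeval _).commutes a).symm
  · rw [Scheme.Hom.comp_appTop, CommRingCat.comp_apply, theta_coord, ← CommRingCat.comp_apply,
      ← Scheme.ΓSpecIso_inv_naturality, CommRingCat.comp_apply]
    show _ = (Scheme.ΓSpecIso (CommRingCat.of B)).inv (MvPolynomial.aeval _ (MvPolynomial.X k.down))
    rw [MvPolynomial.aeval_X]
    exact (Iso.hom_inv_id_apply _ _).symm

variable {X : Scheme.{u}}

/-- A Cohen–Macaulay point has a neighbourhood flat and quasi-finite over affine space. -/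
theorem exists_flat_quasiFinite (f : X ⟶ Y) [LocallyOfFinitePresentation f] (x : X) (n : ℕ)
    (h : MoreMor.IsCMAt f x) (hn : FlatMor.fibreDimAt f x = n) :
    ∃ (U : X.Opens) (g : (U : Scheme.{u}) ⟶ 𝔸(ULift.{u} (Fin n); Y)), x ∈ U ∧
      g ≫ (𝔸(ULift.{u} (Fin n); Y) ↘ Y) = U.ι ≫ f ∧ Flat g ∧ LocallyQuasiFinite g := by
  obtain ⟨c, φ, g, hg, hP⟩ := exists_chart_flat f x n h hn
  letI := φ.toRingHom.toAlgebra
  haveI : IsScalarTower c.A (MvPolynomial (Fin n) c.A) c.B := .of_algebraMap_eq fun a => (φ.commutes a).symm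
  haveI : Algebra.FiniteType (MvPolynomial (Fin n) c.A) c.B :=
    Algebra.FiniteType.of_restrictScalars_finiteType c.A _ _
  haveI := quasiFinite_away g fun P _ hgP => (hP ⟨P, inferInstance⟩ hgP).1
  haveI : Module.Flat (MvPolynomial (Fin n) c.A) (Localization.Away g) := by
    refine flat_of_localizations fun P _ => ?_
    have hgP : g ∉ P.under c.B := fun hm => (Ideal.IsMaximal.ne_top ‹_›)
      (P.eq_top_of_isUnit_mem hm (IsLocalization.Away.algebraMap_isUnit g))
    haveI : (P.under c.B).IsPrime := Ideal.IsPrime.comap _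
    haveI := (hP ⟨P.under c.B, inferInstance⟩ hgP).2
    haveI := IsLocalization.isLocalization_isLocalization_atPrime_isLocalization (Submonoid.powers g)
      (Localization.AtPrime P) P
    exact Module.Flat.of_linearEquiv
      ((IsLocalization.algEquiv (P.under c.B).primeCompl (Localization.AtPrime P)
        (Localization.AtPrime (P.under c.B))).restrictScalars (MvPolynomial (Fin n) c.A)).toLinearEquiv
  let a : Spec (CommRingCat.of (Localization.Away g)) ⟶ Spec (CommRingCat.of c.B) :=
    Spec.map (CommRingCat.ofHom (algebraMap c.B (Localization.Away g)))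
  haveI : IsOpenImmersion a := IsOpenImmersion.of_isLocalization g
  let b := Spec.map (CommRingCat.ofHom (algebraMap (MvPolynomial (Fin n) c.A) (Localization.Away g)))
  haveI : Flat b := HasRingHomProperty.Spec_iff.2 (RingHom.flat_algebraMap_iff.2 ‹_›)
  haveI : LocallyQuasiFinite b := HasRingHomProperty.Spec_iff.2 (RingHom.quasiFinite_algebraMap.2 ‹_›)
  let e := (a ≫ c.j).isoOpensRange
  refine ⟨(a ≫ c.j).opensRange, e.inv ≫ b ≫ theta c.i n, ?_, ?_, inferInstance, inferInstance⟩
  · obtain ⟨P, hP⟩ := (PrimeSpectrum.localization_away_comap_range (Localization.Away g) g).ge hg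
    refine ⟨P, ?_⟩
    rw [Scheme.Hom.comp_apply]
    exact (congrArg c.j hP).trans c.hq
  · rw [Category.assoc, Category.assoc, theta_over, Iso.inv_comp_eq, ← Category.assoc e.hom,
      Scheme.Hom.isoOpensRange_hom_ι, Category.assoc, c.w, ← Spec.map_comp_assoc, ← Spec.map_comp_assoc,
      ← CommRingCat.ofHom_comp, ← CommRingCat.ofHom_comp]
    congr 3
    refine RingHom.ext fun r => ?_
    show algebraMap (MvPolynomial (Fin n) c.A) (Localization.Away g) (MvPolynomial.C r) =
      algebraMap c.B (Localization.Away g) (algebraMap c.A c.B r)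
    rw [IsScalarTower.algebraMap_apply (MvPolynomial (Fin n) c.A) c.B (Localization.Away g)]
    exact congrArg _ (φ.commutes r)

/-- A map to affine space which is flat and quasi-finite at a point makes it Cohen–Macaulay. -/
theorem isCMAt_of_flat_quasiFinite (f : X ⟶ Y) [LocallyOfFinitePresentation f] {U : X.Opens}
    (g : (U : Scheme.{u}) ⟶ 𝔸(ULift.{u} (Fin n); Y))
    (hg : g ≫ (𝔸(ULift.{u} (Fin n); Y) ↘ Y) = U.ι ≫ f) [LocallyQuasiFinite g] (x : U)
    (hflat : (g.stalkMap x).hom.Flat) :
    MoreMor.IsCMAt f (U.ι x) ∧ FlatMor.fibreDimAt f (U.ι x) = n := by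
  obtain ⟨c⟩ := exists_chart (U.ι ≫ f) x
  have hh : (c.j ≫ g) ≫ (𝔸(ULift.{u} (Fin n); Y) ↘ Y) = Spec.map (CommRingCat.ofHom (algebraMap c.A c.B)) ≫ c.i := by
    rw [Category.assoc, hg, c.w]
  obtain ⟨φ, hφ⟩ := exists_eq_comp_theta c.i n (c.j ≫ g) hh
  letI : Algebra (MvPolynomial (Fin n) c.A) c.B := φ.toRingHom.toAlgebra
  haveI : IsScalarTower c.A (MvPolynomial (Fin n) c.A) c.B := .of_algebraMap_eq fun a => (φ.commutes a).symm
  haveI : LocallyQuasiFinite (Spec.map (CommRingCat.ofHom (algebraMap (MvPolynomial (Fin n) c.A) c.B)) ≫ theta c.i n) := by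
    rw [show Spec.map (CommRingCat.ofHom (algebraMap (MvPolynomial (Fin n) c.A) c.B)) ≫ theta c.i n = c.j ≫ g from hφ.symm]
    infer_instance
  haveI : LocallyQuasiFinite (Spec.map (CommRingCat.ofHom (algebraMap (MvPolynomial (Fin n) c.A) c.B))) :=
    LocallyQuasiFinite.of_comp _ (theta c.i n)
  haveI : Algebra.QuasiFinite (MvPolynomial (Fin n) c.A) c.B :=
    RingHom.quasiFinite_algebraMap.1 (HasRingHomProperty.Spec_iff.1 ‹LocallyQuasiFinite
      (Spec.map (CommRingCat.ofHom (algebraMap (MvPolynomial (Fin n) c.A) c.B)))›)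
  haveI hq : Algebra.QuasiFiniteAt (MvPolynomial (Fin n) c.A) c.q.asIdeal := inferInstance
  haveI : c.q.asIdeal.LiesOver (PrimeSpectrum.comap (algebraMap (MvPolynomial (Fin n) c.A) c.B) c.q).asIdeal := ⟨rfl⟩
  let z : ↥(Spec (CommRingCat.of c.B)) := c.q
  have hflat' : Module.Flat (MvPolynomial (Fin n) c.A) (Localization.AtPrime c.q.asIdeal) := by
    have h1 : ((c.j ≫ g).stalkMap z).hom.Flat := by
      rw [stalkMap_comp_left_iff RingHom.Flat.respectsIso c.j g z, show c.j z = x from c.hq]
      exact hflat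
    have h2 := (stalkMap_iff_of_eq (P := @RingHom.Flat) hφ z).1 h1
    exact (localRingHom_flat_iff _ c.q.asIdeal).1
      ((spec_stalkMap_iff RingHom.Flat.respectsIso _ c.q).1
        ((stalkMap_comp_right_iff RingHom.Flat.respectsIso _ (theta c.i n) z).1 h2))
  letI : Algebra (MvPolynomial (Fin n) c.push.A) c.push.B := φ.toRingHom.toAlgebra
  haveI : IsScalarTower c.push.A (MvPolynomial (Fin n) c.push.A) c.push.B :=
    .of_algebraMap_eq fun a => (φ.commutes a).symm
  haveI : Algebra.QuasiFiniteAt (MvPolynomial (Fin n) c.push.A) c.push.q.asIdeal := hq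
  exact (isCMAt_and_dim_iff c.push).2 hflat'

end Groth.Agent.CMFlatLib
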