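import Groth.Agent.CMFlatLib.Locus

/-!
Local dimensions for Cohen–Macaulay morphisms.
-/

set_option autoImplicit false

universe u

open CategoryTheory AlgebraicGeometry TopologicalSpace

namespace Groth.Agent.CMFlatLib

open DimFormulaLib

theorem add_le_of_forall {ι : Type*} [Nonempty ι] (f : ι → WithBot ℕ∞) (n : ℕ) (D : WithBot ℕ∞)
    (hf : ∀ i, f i ≠ ⊥) (h : ∀ i, f i + n ≤ D) : (⨆ i, f i) + (n : WithBot ℕ∞) ≤ D := by
  obtain ⟨g, rfl⟩ : ∃ g : ι → ℕ∞, (fun i => (g i : WithBot ℕ∞)) = f :=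
    ⟨fun i => (f i).unbot (hf i), funext fun i => WithBot.coe_unbot _ _⟩
  obtain ⟨i₀⟩ := ‹Nonempty ι›
  obtain ⟨D, rfl⟩ : ∃ D' : ℕ∞, (D' : WithBot ℕ∞) = D :=
    WithBot.ne_bot_iff_exists.1 fun hD => by
      have := h i₀
      rw [hD, le_bot_iff] at this
      exact WithBot.coe_ne_bot (show ((g i₀ + n : ℕ∞) : WithBot ℕ∞) = ⊥ from this)
  rw [← WithBot.coe_iSup (OrderTop.bddAbove _), show ((n : ℕ) : WithBot ℕ∞) = ((n : ℕ∞) : WithBot ℕ∞) from rfl,
    ← WithBot.coe_add, WithBot.coe_le_coe, ENat.iSup_add]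
  exact iSup_le fun i => WithBot.coe_le_coe.1 (h i)

theorem topologicalKrullDim_opens_eq {X : Scheme.{u}} (U : X.Opens) :
    topologicalKrullDim ↥U = ⨆ x : U, ringKrullDim (X.presheaf.stalk x.1) := by
  refine (topologicalKrullDim_eq_iSup_stalk U.toScheme).trans ?_
  exact iSup_congr fun x => ringKrullDim_eq_of_ringEquiv (U.stalkIso x).commRingCatIsoToRingEquiv

theorem localDim_eq_of_isCMAt {X Y : Scheme.{u}} (f : X ⟶ Y) [IsLocallyNoetherian X] [IsLocallyNoetherian Y]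
    [LocallyOfFinitePresentation f] (hf : ∀ x : X, MoreMor.IsCMAt f x) (x : X) :
    FlatMor.localDim ↥X x = FlatMor.localDim ↥Y (f x) + FlatMor.fibreDimAt f x := by
  haveI : Flat f := Flat.of_stalkMap f fun x => (hf x).1
  obtain ⟨n, hn⟩ := exists_nat_fibreDimAt f x
  obtain ⟨W, hxW, hW⟩ := exists_nhd_isCMAt f x n (hf x) hn
  rw [hn]
  haveI : Nonempty {V : Opens ↥Y // f x ∈ V} := ⟨⟨⊤, trivial⟩⟩
  refine le_antisymm ?_ (le_iInf fun U => ?_)
  · obtain ⟨⟨V, hV⟩, hVd⟩ := ciInf_mem (fun V : {V : Opens ↥Y // f x ∈ V} => topologicalKrullDim V.1)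
    rw [show FlatMor.localDim ↥Y (f x) = topologicalKrullDim ↥V from hVd.symm]
    let U : X.Opens := W ⊓ f ⁻¹ᵁ V
    refine (iInf_le _ (⟨U, ⟨hxW, hV⟩⟩ : {U : Opens ↥X // x ∈ U})).trans ?_
    show topologicalKrullDim ↥U ≤ _
    rw [topologicalKrullDim_opens_eq]
    refine iSup_le fun z => ?_
    obtain ⟨c⟩ := exists_chart f z.1
    obtain ⟨a, b, d, t', ha, hb, hd, -, hloc, -, -, -, -⟩ := c.dims
    have h1 := stalk_dim_eq f z.1 (hf z.1).1
    rw [ha, hb, hd] at h1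
    have h2 : n = d + t' := by exact_mod_cast (hW z.1 z.2.1).2.symm.trans hloc
    have h3 : a = b + d := by exact_mod_cast h1
    refine le_trans ?_ (add_le_add (show ringKrullDim (Y.presheaf.stalk (f z.1)) ≤ topologicalKrullDim ↥V from ?_) le_rfl)
    · rw [ha, hb]
      exact_mod_cast (by omega : a ≤ b + n)
    · rw [topologicalKrullDim_opens_eq]
      exact le_iSup (fun w : V => ringKrullDim (Y.presheaf.stalk w.1)) ⟨f z.1, z.2.2⟩
  · obtain ⟨U, hU⟩ := U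
    let U' : X.Opens := W ⊓ U
    have hopen : IsOpen (f '' (U' : Set X)) :=
      isOpenMap_of_generalizingMap f (Flat.generalizingMap f) _ U'.isOpen
    refine (add_le_add (iInf_le _ (⟨⟨_, hopen⟩, x, ⟨hxW, hU⟩, rfl⟩ : {V : Opens ↥Y // f x ∈ V})) le_rfl).trans ?_
    show topologicalKrullDim ↥(⟨_, hopen⟩ : Y.Opens) + (n : WithBot ℕ∞) ≤ topologicalKrullDim ↥U
    rw [topologicalKrullDim_opens_eq, topologicalKrullDim_opens_eq]
    haveI : Nonempty ↥(⟨_, hopen⟩ : Y.Opens) := ⟨⟨f x, x, ⟨hxW, hU⟩, rfl⟩⟩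
    refine add_le_of_forall _ n _ (fun y h => ?_) fun y => ?_
    · have := ringKrullDim_nonneg_of_nontrivial (R := Y.presheaf.stalk y.1)
      rw [h] at this
      exact absurd this (by simp)
    · obtain ⟨_, z₀, hz₀, rfl⟩ := y
      obtain ⟨z, hz, hzt⟩ := exists_resTrdegAt_zero (U'.ι ≫ f) ⟨z₀, hz₀⟩
      rw [resTrdegAt_ι f] at hzt
      obtain ⟨c⟩ := exists_chart f (U'.ι z)
      obtain ⟨a, b, d, t', ha, hb, hd, ht', hloc, -, -, -, -⟩ := c.dims
      have h1 := stalk_dim_eq f _ (hf (U'.ι z)).1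
      rw [ha, hb, hd] at h1
      have h2 : n = d + t' := by exact_mod_cast (hW _ z.2.1).2.symm.trans hloc
      have h3 : a = b + d := by exact_mod_cast h1
      have h4 : t' = 0 := by exact_mod_cast (c.resTrdegAt_self.trans ht').symm.trans hzt
      have hfz : f (U'.ι z) = f z₀ := hz
      refine le_trans ?_ (le_iSup (fun w : U => ringKrullDim (X.presheaf.stalk w.1)) ⟨U'.ι z, z.2.2⟩)
      show ringKrullDim (Y.presheaf.stalk (f z₀)) + (n : WithBot ℕ∞) ≤ ringKrullDim (X.presheaf.stalk (U'.ι z))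
      rw [← hfz, hb, ha]
      exact_mod_cast (by omega : b + n ≤ a)

end Groth.Agent.CMFlatLib
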