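import Groth.Agent.CMFlatLib.Poly
import Groth.Agent.DimFormulaLib.Scheme
import Groth.Agent.FlatLocus.FibreStalk
import Groth.Agent.FlatLocus.FibreCrit
import Groth.Agent.FlatLocus.Scheme
import Groth.Prelude.Def_MoreMor

/-!
The Cohen–Macaulay locus of a morphism, read on a chart.
-/

set_option autoImplicit false

universe u

open CategoryTheory AlgebraicGeometry IsLocalRing TensorProduct

namespace Groth.Agent.CMFlatLib

open DimFormulaLib

/-- The closed fibre ring of a map is Cohen–Macaulay. -/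
def CMFibre {R S : Type u} [CommRing R] [CommRing S] (g : R →+* S) : Prop :=
  LocCoh.IsCohenMacaulayLocalRing (S ⧸ (Ideal.span (nonunits R)).map g)

theorem span_nonunits {R : Type u} [CommRing R] [IsLocalRing R] : Ideal.span (nonunits R) = maximalIdeal R :=
  (Ideal.span_eq (maximalIdeal R))

theorem map_span_nonunits {R S : Type u} [CommRing R] [CommRing S] (e : R ≃+* S) :
    (Ideal.span (nonunits R)).map e.toRingHom = Ideal.span (nonunits S) := by
  rw [Ideal.map_span]
  congr 1
  ext y
  refine ⟨?_, fun hy => ⟨e.symm y, fun h => hy (by simpa using h.map e.toRingHom), e.apply_symm_apply y⟩⟩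
  rintro ⟨x, hx, rfl⟩ h
  exact hx (by simpa using h.map e.symm.toRingHom)

theorem respectsIso_cmFibre : RingHom.RespectsIso @CMFibre := by
  refine ⟨fun {R S T} _ _ _ g e h => ?_, fun {R S T} _ _ _ g e h => ?_⟩
  · haveI : LocCoh.IsCohenMacaulayLocalRing (S ⧸ (Ideal.span (nonunits R)).map g) := h
    refine CMCat.isCohenMacaulayLocalRing_of_ringEquiv
      (Ideal.quotientEquiv ((Ideal.span (nonunits R)).map g) ((Ideal.span (nonunits R)).map (e.toRingHom.comp g)) e ?_)
    exact (Ideal.map_map g (e : S →+* T)).symm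
  · haveI : LocCoh.IsCohenMacaulayLocalRing (T ⧸ (Ideal.span (nonunits S)).map g) := h
    refine CMCat.isCohenMacaulayLocalRing_of_ringEquiv (Ideal.quotEquivOfEq
      (I := (Ideal.span (nonunits S)).map g) (J := (Ideal.span (nonunits R)).map (g.comp e.toRingHom)) ?_)
    rw [← Ideal.map_map, map_span_nonunits e]

theorem cm_fibre_stalk_iff {X Y : Scheme.{u}} (f : X ⟶ Y) (s : Y) (z : f.fiber s) :
    LocCoh.IsCohenMacaulayLocalRing ((f.fiber s).presheaf.stalk z) ↔ CMFibre (f.stalkMap (f.fiberι s z)).hom := by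
  let e := (Ideal.quotEquivOfEq (show (Ideal.span (nonunits _)).map (f.stalkMap (f.fiberι s z)).hom =
      RingHom.ker ((f.fiberι s).stalkMap z).hom by rw [span_nonunits, FlatLocus.ker_fiberι_stalkMap])).trans
    (RingHom.quotientKerEquivOfSurjective (f := ((f.fiberι s).stalkMap z).hom) (FlatLocus.fiberι_stalkMap_surjective f s z))
  exact ⟨fun h => CMCat.isCohenMacaulayLocalRing_of_ringEquiv e.symm,
    fun h => haveI : LocCoh.IsCohenMacaulayLocalRing _ := h; CMCat.isCohenMacaulayLocalRing_of_ringEquiv e⟩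

theorem isCMAt_iff {X Y : Scheme.{u}} (f : X ⟶ Y) (x : X) :
    MoreMor.IsCMAt f x ↔ (f.stalkMap x).hom.Flat ∧ CMFibre (f.stalkMap x).hom := by
  have key : ∀ x' : X, x' = x → (CMFibre (f.stalkMap x').hom ↔ CMFibre (f.stalkMap x).hom) := by
    rintro x' rfl; rfl
  rw [MoreMor.IsCMAt, cm_fibre_stalk_iff, key _ (f.fiberι_asFiber x)]

section Spec

variable {P : ∀ {R S : Type u} [CommRing R] [CommRing S], (R →+* S) → Prop}

theorem stalkMap_iff_of_eq {X Y : Scheme.{u}} {f g : X ⟶ Y} (h : f = g) (x : X) :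
    P (f.stalkMap x).hom ↔ P (g.stalkMap x).hom := by
  subst h; rfl

theorem stalkMap_comp_left_iff (hP : RingHom.RespectsIso P) {X Y Z : Scheme.{u}} (g : X ⟶ Y) [IsOpenImmersion g]
    (f : Y ⟶ Z) (x : X) : P ((g ≫ f).stalkMap x).hom ↔ P (f.stalkMap (g x)).hom := by
  rw [Scheme.Hom.stalkMap_comp]
  exact hP.cancel_right_isIso (f.stalkMap (g x)) (g.stalkMap x)

theorem stalkMap_comp_right_iff (hP : RingHom.RespectsIso P) {X Y Z : Scheme.{u}} (g : X ⟶ Y)
    (f : Y ⟶ Z) [IsOpenImmersion f] (x : X) : P ((g ≫ f).stalkMap x).hom ↔ P (g.stalkMap x).hom := by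
  rw [Scheme.Hom.stalkMap_comp]
  exact hP.cancel_left_isIso (f.stalkMap (g x)) (g.stalkMap x)

theorem spec_stalkMap_iff (hP : RingHom.RespectsIso P) {R S : Type u} [CommRing R] [CommRing S] (φ : R →+* S)
    (q : PrimeSpectrum S) :
    P ((Spec.map (CommRingCat.ofHom φ)).stalkMap q).hom ↔
      P (Localization.localRingHom (PrimeSpectrum.comap φ q).asIdeal q.asIdeal φ rfl) :=
  hP.arrow_mk_iso_iff (Scheme.arrowStalkMapSpecIso (CommRingCat.ofHom φ) q)

theorem chart_stalkMap_iff (hP : RingHom.RespectsIso P) {X Y : Scheme.{u}} {f : X ⟶ Y} {x : X} (c : Chart f x) :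
    P (f.stalkMap x).hom ↔ P (Localization.localRingHom c.p.asIdeal c.q.asIdeal (algebraMap c.A c.B) rfl) := by
  obtain ⟨A, B, i, j, w, q, rfl⟩ := c
  let z : ↥(Spec (CommRingCat.of B)) := q
  have h1 := stalkMap_iff_of_eq (P := P) w z
  exact ((stalkMap_comp_left_iff hP j f z).symm.trans (h1.trans (stalkMap_comp_right_iff hP _ i z))).trans
    (spec_stalkMap_iff hP (algebraMap A B) q)

end Spec

theorem localRingHom_flat_iff {A B : Type u} [CommRing A] [CommRing B] [Algebra A B] (p : Ideal A) [p.IsPrime]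
    (q : Ideal B) [q.IsPrime] [q.LiesOver p] :
    (Localization.localRingHom p q (algebraMap A B) (q.over_def p)).Flat ↔ Module.Flat A (Localization.AtPrime q) := by
  letI := Localization.AtPrime.algebraOfLiesOver p q
  rw [← Localization.AtPrime.IsLiesOverAlgebra.algebraMap_eq, RingHom.flat_algebraMap_iff]
  exact Module.flat_iff_of_isLocalization (Localization.AtPrime p) p.primeCompl _

theorem localRingHom_cmFibre_iff {A B : Type u} [CommRing A] [CommRing B] [Algebra A B] (p : Ideal A) [p.IsPrime]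
    (q : Ideal B) [q.IsPrime] [q.LiesOver p] (Q : PrimeSpectrum (p.Fiber B))
    (hQ : Q.asIdeal.comap (Algebra.TensorProduct.includeRight : B →ₐ[A] p.Fiber B).toRingHom = q) :
    CMFibre (Localization.localRingHom p q (algebraMap A B) (q.over_def p)) ↔
      LocCoh.IsCohenMacaulayLocalRing (Localization.AtPrime Q.asIdeal) := by
  obtain ⟨eB⟩ := exists_quotLocal_equiv p q Q.asIdeal hQ
  let e := (Ideal.quotEquivOfEq (show (Ideal.span (nonunits (Localization.AtPrime p))).map
      (Localization.localRingHom p q (algebraMap A B) (q.over_def p)) = p.map (algebraMap A (Localization.AtPrime q)) by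
    rw [span_nonunits, ← Localization.AtPrime.map_eq_maximalIdeal, Ideal.map_map]
    congr 1
    ext a
    exact (Localization.localRingHom_to_map p q (algebraMap A B) (q.over_def p) a).trans (IsScalarTower.algebraMap_apply A B _ a).symm)).trans eB
  exact ⟨fun h => haveI : LocCoh.IsCohenMacaulayLocalRing _ := h; CMCat.isCohenMacaulayLocalRing_of_ringEquiv e,
    fun h => haveI : LocCoh.IsCohenMacaulayLocalRing (Localization.AtPrime Q.asIdeal) := h; CMCat.isCohenMacaulayLocalRing_of_ringEquiv (A := Localization.AtPrime Q.asIdeal) e.symm⟩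

variable {X Y : Scheme.{u}} {f : X ⟶ Y} {x : X}

theorem chart_flat_iff (c : Chart f x) :
    (f.stalkMap x).hom.Flat ↔ Module.Flat c.A (Localization.AtPrime c.q.asIdeal) :=
  (chart_stalkMap_iff RingHom.Flat.respectsIso c).trans (localRingHom_flat_iff c.p.asIdeal c.q.asIdeal)

theorem chart_isCMAt_iff (c : Chart f x) :
    MoreMor.IsCMAt f x ↔ Module.Flat c.A (Localization.AtPrime c.q.asIdeal) ∧
      LocCoh.IsCohenMacaulayLocalRing (Localization.AtPrime c.Q.asIdeal) := by
  rw [isCMAt_iff, chart_flat_iff c, chart_stalkMap_iff respectsIso_cmFibre c,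
    localRingHom_cmFibre_iff c.p.asIdeal c.q.asIdeal c.Q c.comap_Q]

theorem chart_finitePresentation (c : Chart f x) [LocallyOfFinitePresentation f] :
    Algebra.FinitePresentation c.A c.B := by
  have h1 : LocallyOfFinitePresentation (Spec.map (CommRingCat.ofHom (algebraMap c.A c.B)) ≫ c.i) := by
    rw [← c.w]; infer_instance
  have h2 := FlatLocus.locallyOfFinitePresentation_of_comp (Spec.map (CommRingCat.ofHom (algebraMap c.A c.B))) c.i
  exact RingHom.finitePresentation_algebraMap.1 (HasRingHomProperty.Spec_iff.1 h2)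

variable {n : ℕ}

/-- The criterion at a point quasi-finite over affine space. -/
theorem isCMAt_and_dim_iff (c : Chart f x) [LocallyOfFinitePresentation f]
    [Algebra (MvPolynomial (Fin n) c.A) c.B] [IsScalarTower c.A (MvPolynomial (Fin n) c.A) c.B]
    [Algebra.QuasiFiniteAt (MvPolynomial (Fin n) c.A) c.q.asIdeal] :
    (MoreMor.IsCMAt f x ∧ FlatMor.fibreDimAt f x = n) ↔
      Module.Flat (MvPolynomial (Fin n) c.A) (Localization.AtPrime c.q.asIdeal) := by
  haveI := chart_finitePresentation c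
  rw [chart_isCMAt_iff c, c.fibreDimAt_eq]
  constructor
  · rintro ⟨⟨h1, h2⟩, h3⟩
    exact (flat_poly_iff c.p.asIdeal c.q.asIdeal c.Q c.comap_Q).2 ⟨h2, h3⟩
  · intro h
    haveI : Module.Flat c.A (Localization.AtPrime c.q.asIdeal) :=
      Module.Flat.trans c.A (MvPolynomial (Fin n) c.A) _
    obtain ⟨h2, h3⟩ := (flat_poly_iff c.p.asIdeal c.q.asIdeal c.Q c.comap_Q).1 h
    exact ⟨⟨inferInstance, h2⟩, h3⟩

end Groth.Agent.CMFlatLib
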