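import Mathlib
import Groth.Prelude.Def_CAlg
import Groth.Agent.Depth.Basic
import Groth.Agent.CMGraded.FlatCM
import Groth.Agent.CMCat.Polynomial
import Groth.Agent.GorLib.Flat
import Groth.Agent.LocFlat.Fibre

/-!
The Cohen–Macaulay property along flat local homomorphisms of noetherian local rings:
`B` is Cohen–Macaulay iff `A` and the closed fibre are.
-/

set_option autoImplicit false

universe u

open IsLocalRing RingTheory.Sequence

namespace Groth.Agent.CMFlatLib

theorem cm_congr {A B : Type u} [CommRing A] [CommRing B] (e : A ≃+* B) :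
    LocCoh.IsCohenMacaulayLocalRing A ↔ LocCoh.IsCohenMacaulayLocalRing B :=
  ⟨fun _ => CMCat.isCohenMacaulayLocalRing_of_ringEquiv e,
    fun _ => CMCat.isCohenMacaulayLocalRing_of_ringEquiv e.symm⟩

section

variable (B : Type u) [CommRing B] [IsLocalRing B] [IsNoetherianRing B]

omit [IsNoetherianRing B] in
theorem smul_top_ne_top : maximalIdeal B • (⊤ : Submodule B B) ≠ ⊤ := by
  rw [smul_eq_mul, Ideal.mul_top]; exact (maximalIdeal.isMaximal B).ne_top

theorem cm_of_artinian [IsArtinianRing B] : LocCoh.IsCohenMacaulayLocalRing B :=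
  CMGraded.isCohenMacaulayLocalRing_of_seq (rs := []) (by simp) (IsWeaklyRegular.nil B B)
    (by simpa using Ring.krullDimLE_iff.mp (isArtinianRing_iff_krullDimLE_zero.mp ‹_›))

theorem artinian_of_cm_of_socle [LocCoh.IsCohenMacaulayLocalRing B] {x : B} (hx : x ≠ 0)
    (h : ∀ r ∈ maximalIdeal B, r * x = 0) : IsArtinianRing B := by
  have h0 : LocCoh.depth B B = 0 := (Depth.idealDepth_eq_zero_iff (smul_top_ne_top B)).mpr ⟨x, hx, h⟩
  have hd := CMGraded.depth_eq_ringKrullDim (R := B)
  rw [h0] at hd
  rw [isArtinianRing_iff_krullDimLE_zero, Ring.krullDimLE_iff, ← hd]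
  exact le_rfl

noncomputable def quotSMulTopSelfEquiv (f : B) : QuotSMulTop f B ≃ₗ[B] B ⧸ Ideal.span ({f} : Set B) :=
  Submodule.quotEquivOfEq _ _ (by
    rw [← Submodule.ideal_span_singleton_smul, smul_eq_mul, Ideal.mul_top])

/-- Cohen–Macaulayness can be tested modulo a regular element of the maximal ideal. -/
theorem cm_quot_iff {f : B} (hf : f ∈ maximalIdeal B) (hreg : IsSMulRegular B f) :
    LocCoh.IsCohenMacaulayLocalRing B ↔ LocCoh.IsCohenMacaulayLocalRing (B ⧸ Ideal.span ({f} : Set B)) := by
  haveI := GorLib.isLocalRing_quot_span hf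
  have hdim := ringKrullDim_quotient_span_singleton_succ_eq_ringKrullDim hreg hf
  have hsurj := Ideal.Quotient.mk_surjective (I := Ideal.span ({f} : Set B))
  obtain ⟨n, hn⟩ := RegLocal.exists_nat_ringKrullDim (B ⧸ Ideal.span ({f} : Set B))
  have hB : ringKrullDim B = ((n + 1 : ℕ) : WithBot ℕ∞) := by rw [← hdim, hn]; push_cast; rfl
  constructor
  · intro hcm
    obtain ⟨s, hs, hsm, hsw⟩ := (Depth.le_idealDepth_iff (smul_top_ne_top B) (n + 1)).1 (le_of_eq (by
      have h := CMGraded.depth_eq_ringKrullDim (R := B)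
      rw [hB] at h
      exact (WithBot.coe_inj.mp h).symm))
    obtain ⟨t, ht, htm, htw⟩ := Depth.exists_seq_quotSMulTop (smul_top_ne_top B) hf hreg hsw hsm hs
    refine CMGraded.isCohenMacaulayLocalRing_of_seq (rs := t.map (algebraMap B _)) ?_ ?_ ?_
    · intro r hr
      obtain ⟨a, ha, rfl⟩ := List.mem_map.1 hr
      rw [← IsLocalRing.map_maximalIdeal_of_surjective (Ideal.Quotient.mk _) hsurj]
      exact Ideal.mem_map_of_mem _ (htm a ha)
    · exact (isWeaklyRegular_map_algebraMap_iff _ _ t).2 (((quotSMulTopSelfEquiv B f).isWeaklyRegular_congr t).1 htw)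
    · rw [List.length_map, ht, hn]
  · intro hcm
    obtain ⟨s, hs, hsm, hsw⟩ := (Depth.le_idealDepth_iff (smul_top_ne_top (B ⧸ Ideal.span ({f} : Set B))) n).1 (le_of_eq (by
      have h := CMGraded.depth_eq_ringKrullDim (R := B ⧸ Ideal.span ({f} : Set B))
      rw [hn] at h
      exact (WithBot.coe_inj.mp h).symm))
    let t : List B := s.map (Function.surjInv hsurj)
    have hts : t.map (algebraMap B _) = s := by
      rw [List.map_map]
      exact (List.map_congr_left fun a _ => Function.surjInv_eq hsurj a).trans (List.map_id s)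
    refine CMGraded.isCohenMacaulayLocalRing_of_seq (rs := f :: t) ?_ ?_ ?_
    · intro r hr
      rcases List.mem_cons.1 hr with rfl | hr
      · exact hf
      obtain ⟨a, ha, rfl⟩ := List.mem_map.1 hr
      by_contra hu
      have h2 := hsm a ha
      rw [← Function.surjInv_eq hsurj a] at h2
      exact h2 ((IsLocalRing.notMem_maximalIdeal.mp hu).map (Ideal.Quotient.mk _))
    · refine (isWeaklyRegular_cons_iff B f t).2 ⟨hreg, ((quotSMulTopSelfEquiv B f).isWeaklyRegular_congr t).2 ?_⟩
      rw [← isWeaklyRegular_map_algebraMap_iff (B ⧸ Ideal.span ({f} : Set B)), hts]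
      exact hsw
    · rw [hB, List.length_cons, List.length_map, hs]

end

theorem cm_flat_local_aux : ∀ (n : ℕ) (A B : Type u) [CommRing A] [CommRing B] [IsLocalRing A] [IsLocalRing B]
    [IsNoetherianRing A] [IsNoetherianRing B] [Algebra A B] [IsLocalHom (algebraMap A B)] [Module.Flat A B],
    ringKrullDim B ≤ n → (LocCoh.IsCohenMacaulayLocalRing B ↔ (LocCoh.IsCohenMacaulayLocalRing A ∧
      LocCoh.IsCohenMacaulayLocalRing (B ⧸ (maximalIdeal A).map (algebraMap A B)))) := by
  intro n
  induction n using Nat.strong_induction_on with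
  | _ n ih =>
    intro A B _ _ _ _ _ _ _ _ _ hn
    haveI := GorLib.isLocalRing_fibre (A := A) (B := B)
    rcases GorLib.exists_embedding_or_regular A with ⟨sA, hsA⟩ | ⟨f, hf, hreg⟩
    swap
    · -- a regular element in the base
      have hfB : algebraMap A B f ∈ maximalIdeal B := map_nonunit (algebraMap A B) f hf
      have hregB := GorLib.regular_top_of_base (B := B) hreg
      obtain ⟨k, hk, hdim⟩ := GorLib.dim_quot_le hn hfB hregB
      have hmap : (Ideal.span ({f} : Set A)).map (algebraMap A B) = Ideal.span {algebraMap A B f} := by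
        rw [Ideal.map_span, Set.image_singleton]
      rw [← hmap] at hdim
      haveI := GorLib.isLocalRing_quot_span hf
      haveI : IsLocalRing (B ⧸ (Ideal.span ({f} : Set A)).map (algebraMap A B)) := by
        rw [hmap]; exact GorLib.isLocalRing_quot_span hfB
      haveI := GorLib.flat_quot_map (B := B) (Ideal.span ({f} : Set A))
      haveI : IsLocalHom (algebraMap (A ⧸ Ideal.span ({f} : Set A)) (B ⧸ (Ideal.span ({f} : Set A)).map (algebraMap A B))) := by
        refine ⟨fun a ha => ?_⟩
        obtain ⟨r, rfl⟩ := Ideal.Quotient.mk_surjective a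
        haveI : IsLocalHom (Ideal.Quotient.mk ((Ideal.span ({f} : Set A)).map (algebraMap A B))) :=
          .of_surjective _ Ideal.Quotient.mk_surjective
        exact (isUnit_of_map_unit (algebraMap A B) r
          (isUnit_of_map_unit (Ideal.Quotient.mk ((Ideal.span ({f} : Set A)).map (algebraMap A B))) _ ha)).map _
      have key := ih k hk (A ⧸ Ideal.span ({f} : Set A)) (B ⧸ (Ideal.span ({f} : Set A)).map (algebraMap A B)) hdim
      have hJmap : (maximalIdeal (A ⧸ Ideal.span ({f} : Set A))).map
          (algebraMap (A ⧸ Ideal.span ({f} : Set A)) (B ⧸ (Ideal.span ({f} : Set A)).map (algebraMap A B))) =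
          ((maximalIdeal A).map (algebraMap A B)).map (Ideal.Quotient.mk _) := by
        rw [← IsLocalRing.map_maximalIdeal_of_surjective (Ideal.Quotient.mk (Ideal.span ({f} : Set A)))
          Ideal.Quotient.mk_surjective, Ideal.map_map, Ideal.map_map]
        congr 1
      rw [cm_quot_iff A hf hreg, cm_quot_iff B hfB hregB,
        cm_congr (Ideal.quotEquivOfEq hmap.symm), key,
        cm_congr ((Ideal.quotEquivOfEq hJmap).trans (DoubleQuot.quotQuotEquivQuotOfLE
          (Ideal.map_mono ((Ideal.span_singleton_le_iff_mem _).mpr hf))))]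
    rcases GorLib.exists_embedding_or_regular (B ⧸ (maximalIdeal A).map (algebraMap A B)) with ⟨sF, hsF⟩ | ⟨g, hg, hregg⟩
    swap
    · -- a regular element in the fibre
      obtain ⟨f, rfl⟩ := Ideal.Quotient.mk_surjective g
      have hfB : f ∈ maximalIdeal B := by
        by_contra hu
        exact hg ((IsLocalRing.notMem_maximalIdeal.mp hu).map _)
      obtain ⟨hflat, hnzd⟩ := LocFlat.flat_quotient_and_regular (R := A) f (by
        refine mem_nonZeroDivisors_iff_right.mpr fun x hx => hregg ?_
        simpa [mul_comm] using hx)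
      have hregB : IsSMulRegular B f := fun a b hab => (mul_cancel_left_mem_nonZeroDivisors hnzd).mp hab
      obtain ⟨k, hk, hdim⟩ := GorLib.dim_quot_le hn hfB hregB
      haveI := GorLib.isLocalRing_quot_span hfB
      haveI := hflat
      haveI : IsLocalHom (algebraMap A (B ⧸ Ideal.span ({f} : Set B))) :=
        GorLib.isLocalHom_of_comp (algebraMap A B) (Ideal.Quotient.mk _) Ideal.Quotient.mk_surjective
      have key := ih k hk A (B ⧸ Ideal.span ({f} : Set B)) hdim
      have hJmap : (maximalIdeal A).map (algebraMap A (B ⧸ Ideal.span ({f} : Set B))) =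
          ((maximalIdeal A).map (algebraMap A B)).map (Ideal.Quotient.mk _) := by
        rw [Ideal.map_map]; rfl
      have hspan : (Ideal.span ({f} : Set B)).map (Ideal.Quotient.mk ((maximalIdeal A).map (algebraMap A B))) =
          Ideal.span {Ideal.Quotient.mk ((maximalIdeal A).map (algebraMap A B)) f} := by
        rw [Ideal.map_span, Set.image_singleton]
      rw [cm_quot_iff B hfB hregB, key, cm_quot_iff (B ⧸ _) hg hregg,
        cm_congr ((Ideal.quotEquivOfEq hJmap).trans
          ((DoubleQuot.quotQuotEquivComm _ _).trans (Ideal.quotEquivOfEq hspan)))]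
    -- both of depth zero
    obtain ⟨t, ht0, ht⟩ : ∃ t : A, t ≠ 0 ∧ ∀ r ∈ maximalIdeal A, r * t = 0 :=
      ⟨sA 1, fun h1 => one_ne_zero (hsA (h1.trans (map_zero sA).symm)),
        fun r hr => InjHullLib.smul_eq_zero_of_mem_range (LinearMap.mem_range_self sA 1) hr⟩
    obtain ⟨v, hv0, hv⟩ : ∃ v : B ⧸ (maximalIdeal A).map (algebraMap A B), v ≠ 0 ∧ ∀ r ∈ maximalIdeal _, r * v = 0 :=
      ⟨sF 1, fun h1 => one_ne_zero (hsF (h1.trans (map_zero sF).symm)),
        fun r hr => InjHullLib.smul_eq_zero_of_mem_range (LinearMap.mem_range_self sF 1) hr⟩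
    constructor
    · intro hB
      obtain ⟨u, rfl⟩ := Ideal.Quotient.mk_surjective v
      have hkill : ∀ r ∈ maximalIdeal B, r * (algebraMap A B t * u) = 0 := fun r hr => by
        rw [mul_left_comm]
        refine (GorLib.mul_socle_eq_zero_iff ht0 ht _).mpr (Ideal.Quotient.eq_zero_iff_mem.mp ?_)
        rw [map_mul]
        haveI : IsLocalHom (Ideal.Quotient.mk ((maximalIdeal A).map (algebraMap A B))) :=
          .of_surjective _ Ideal.Quotient.mk_surjective
        exact hv _ (map_nonunit _ r hr)
      haveI := artinian_of_cm_of_socle B (x := algebraMap A B t * u) (fun h0 =>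
        hv0 (Ideal.Quotient.eq_zero_iff_mem.mpr ((GorLib.mul_socle_eq_zero_iff ht0 ht u).mp h0))) hkill
      haveI := GorLib.isArtinianRing_of_top (A := A) (B := B)
      exact ⟨cm_of_artinian A, cm_of_artinian _⟩
    · rintro ⟨hA, hF⟩
      haveI := artinian_of_cm_of_socle A ht0 ht
      haveI := artinian_of_cm_of_socle _ hv0 hv
      haveI := GorLib.isArtinianRing_of_base (A := A) (B := B)
      exact cm_of_artinian B

/-- Along a flat local homomorphism `A → B` of noetherian local rings, `B` is Cohen–Macaulay iff `A`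
and the closed fibre are. -/
theorem cm_flat_local_iff (A B : Type u) [CommRing A] [CommRing B] [IsLocalRing A] [IsLocalRing B]
    [IsNoetherianRing A] [IsNoetherianRing B] [Algebra A B] [IsLocalHom (algebraMap A B)] [Module.Flat A B] :
    LocCoh.IsCohenMacaulayLocalRing B ↔ (LocCoh.IsCohenMacaulayLocalRing A ∧
      LocCoh.IsCohenMacaulayLocalRing (B ⧸ (maximalIdeal A).map (algebraMap A B))) := by
  obtain ⟨d, hd⟩ := RegLocal.exists_nat_ringKrullDim B
  exact cm_flat_local_aux d A B hd.le

end Groth.Agent.CMFlatLib
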