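import Mathlib
import Groth.Agent.CMFlatLib.FlatLocal
import Groth.Agent.CMFlatLib.Chart
import Groth.Agent.FpqcDesc.Stalk
import Groth.Agent.FpqcDesc.Noeth

/-!
Cohen–Macaulay fibres and composition.
-/

set_option autoImplicit false

universe u

open CategoryTheory AlgebraicGeometry IsLocalRing

namespace Groth.Agent.CMFlatLib

theorem cmFibre_comp_iff {R S T : Type u} [CommRing R] [CommRing S] [CommRing T] [IsLocalRing R] [IsLocalRing S]
    [IsLocalRing T] (φ : R →+* S) (ψ : S →+* T) [IsLocalHom φ] [IsLocalHom ψ] (hψ : ψ.Flat)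
    [IsNoetherianRing (T ⧸ (Ideal.span (nonunits R)).map (ψ.comp φ))] :
    CMFibre (ψ.comp φ) ↔ CMFibre φ ∧ CMFibre ψ := by
  algebraize [φ, ψ, ψ.comp φ]
  let J : Ideal S := (maximalIdeal R).map φ
  have hJT : (Ideal.span (nonunits R)).map (ψ.comp φ) = J.map (algebraMap S T) := by
    rw [span_nonunits, ← Ideal.map_map]; rfl
  haveI : IsLocalHom (algebraMap S T) := ‹IsLocalHom ψ›
  have hJm : J ≤ maximalIdeal S := ((local_hom_TFAE φ).out 0 2 rfl rfl).mp inferInstance
  have hJTm : J.map (algebraMap S T) ≤ maximalIdeal T :=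
    (Ideal.map_mono hJm).trans (((local_hom_TFAE (algebraMap S T)).out 0 2 rfl rfl).mp inferInstance)
  haveI : IsNoetherianRing (T ⧸ J.map (algebraMap S T)) :=
    isNoetherianRing_of_ringEquiv (T ⧸ (Ideal.span (nonunits R)).map (ψ.comp φ)) (Ideal.quotEquivOfEq hJT)
  haveI : Nontrivial (S ⧸ J) := Ideal.Quotient.nontrivial_iff.2 (ne_top_of_le_ne_top Ideal.IsPrime.ne_top' hJm)
  haveI : IsLocalRing (S ⧸ J) := IsLocalRing.of_surjective' _ (Ideal.Quotient.mk_surjective (I := J))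
  haveI : Nontrivial (T ⧸ J.map (algebraMap S T)) :=
    Ideal.Quotient.nontrivial_iff.2 (ne_top_of_le_ne_top Ideal.IsPrime.ne_top' hJTm)
  haveI : IsLocalRing (T ⧸ J.map (algebraMap S T)) :=
    IsLocalRing.of_surjective' _ (Ideal.Quotient.mk_surjective (I := J.map (algebraMap S T)))
  haveI := GorLib.flat_quot_map (B := T) J
  haveI : IsLocalHom (algebraMap (S ⧸ J) (T ⧸ J.map (algebraMap S T))) := by
    refine ⟨fun a ha => ?_⟩
    obtain ⟨r, rfl⟩ := Ideal.Quotient.mk_surjective a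
    haveI : IsLocalHom (Ideal.Quotient.mk (J.map (algebraMap S T))) :=
      .of_surjective _ Ideal.Quotient.mk_surjective
    exact (isUnit_of_map_unit (algebraMap S T) r
      (isUnit_of_map_unit (Ideal.Quotient.mk (J.map (algebraMap S T))) _ ha)).map _
  haveI := Module.FaithfullyFlat.of_flat_of_isLocalHom (A := S ⧸ J) (B := T ⧸ J.map (algebraMap S T))
  haveI := NoethDesc.isNoetherianRing_of_faithfullyFlat (S ⧸ J) (T ⧸ J.map (algebraMap S T))
  have hclosed : (maximalIdeal (S ⧸ J)).map (algebraMap (S ⧸ J) (T ⧸ J.map (algebraMap S T))) =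
      ((maximalIdeal S).map (algebraMap S T)).map (Ideal.Quotient.mk _) := by
    rw [← IsLocalRing.map_maximalIdeal_of_surjective (Ideal.Quotient.mk J) Ideal.Quotient.mk_surjective]
    exact (Ideal.map_map (Ideal.Quotient.mk J) (algebraMap (S ⧸ J) (T ⧸ J.map (algebraMap S T)))).trans
      (Ideal.map_map (algebraMap S T) (Ideal.Quotient.mk (J.map (algebraMap S T)))).symm
  have e1 : T ⧸ (Ideal.span (nonunits R)).map (ψ.comp φ) ≃+* T ⧸ J.map (algebraMap S T) := Ideal.quotEquivOfEq hJT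
  have e2 : S ⧸ (Ideal.span (nonunits R)).map φ ≃+* S ⧸ J := Ideal.quotEquivOfEq (by rw [span_nonunits])
  have e3 : T ⧸ (Ideal.span (nonunits S)).map ψ ≃+*
      (T ⧸ J.map (algebraMap S T)) ⧸ (maximalIdeal (S ⧸ J)).map (algebraMap (S ⧸ J) (T ⧸ J.map (algebraMap S T))) :=
    (Ideal.quotEquivOfEq (by rw [span_nonunits]; rfl)).trans
      ((DoubleQuot.quotQuotEquivQuotOfLE (Ideal.map_mono hJm)).symm.trans (Ideal.quotEquivOfEq hclosed.symm))
  unfold CMFibre
  rw [cm_congr e1, cm_congr e2, cm_congr e3]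
  exact cm_flat_local_iff _ _

theorem isNoetherianRing_fibre {X Y : Scheme.{u}} (f : X ⟶ Y) (x : X) (h : IsNoetherianRing ((f.fiber (f x)).presheaf.stalk (f.asFiber x))) :
    IsNoetherianRing (X.presheaf.stalk x ⧸ (Ideal.span (nonunits (Y.presheaf.stalk (f x)))).map (f.stalkMap x).hom) := by
  have key : ∀ x' : X, x' = x →
      IsNoetherianRing (X.presheaf.stalk x' ⧸ (Ideal.span (nonunits (Y.presheaf.stalk (f x')))).map (f.stalkMap x').hom) →
      IsNoetherianRing (X.presheaf.stalk x ⧸ (Ideal.span (nonunits (Y.presheaf.stalk (f x)))).map (f.stalkMap x).hom) := by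
    rintro x' rfl; exact id
  refine key _ (f.fiberι_asFiber x) ?_
  haveI := h
  let e := (Ideal.quotEquivOfEq (show (Ideal.span (nonunits _)).map (f.stalkMap (f.fiberι (f x) (f.asFiber x))).hom =
      RingHom.ker ((f.fiberι (f x)).stalkMap (f.asFiber x)).hom by rw [span_nonunits, FlatLocus.ker_fiberι_stalkMap])).trans
    (RingHom.quotientKerEquivOfSurjective (f := ((f.fiberι (f x)).stalkMap (f.asFiber x)).hom)
      (FlatLocus.fiberι_stalkMap_surjective f (f x) (f.asFiber x)))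
  exact isNoetherianRing_of_ringEquiv _ e.symm

variable {X Y Z : Scheme.{u}} (f : X ⟶ Y) (g : Y ⟶ Z) (x : X)

theorem isCMAt_comp_iff (hN : IsNoetherianRing (((f ≫ g).fiber ((f ≫ g) x)).presheaf.stalk ((f ≫ g).asFiber x))) (hf : (f.stalkMap x).hom.Flat) :
    MoreMor.IsCMAt (f ≫ g) x ↔ MoreMor.IsCMAt f x ∧ MoreMor.IsCMAt g (f x) := by
  haveI : IsLocalHom (f.stalkMap x).hom := f.prop x
  haveI : IsLocalHom (g.stalkMap (f x)).hom := g.prop (f x)
  have hc : ((f ≫ g).stalkMap x).hom = (f.stalkMap x).hom.comp (g.stalkMap (f x)).hom :=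
    congrArg CommRingCat.Hom.hom (Scheme.Hom.stalkMap_comp f g x)
  haveI : IsNoetherianRing (X.presheaf.stalk x ⧸ (Ideal.span (nonunits (Z.presheaf.stalk (g (f x))))).map
      ((f.stalkMap x).hom.comp (g.stalkMap (f x)).hom)) := hc ▸ isNoetherianRing_fibre (f ≫ g) x hN
  rw [isCMAt_iff, isCMAt_iff, isCMAt_iff]
  have hflat : ((f ≫ g).stalkMap x).hom.Flat ↔ (g.stalkMap (f x)).hom.Flat :=
    (Iff.of_eq (congrArg RingHom.Flat hc)).trans (FlatDescStalk.flat_comp_iff _ _ hf)
  have hcm : CMFibre ((f ≫ g).stalkMap x).hom ↔ CMFibre (g.stalkMap (f x)).hom ∧ CMFibre (f.stalkMap x).hom :=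
    (Iff.of_eq (congrArg CMFibre hc)).trans (cmFibre_comp_iff (g.stalkMap (f x)).hom (f.stalkMap x).hom hf)
  tauto

end Groth.Agent.CMFlatLib
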