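import Groth.Agent.CMFlatLib.BaseChangeAlg
import Groth.Agent.CMFlatLib.Comp
import Groth.Agent.PullbackMod.Flat
import Groth.Agent.FpqcDesc.Stalk

/-!
The Cohen–Macaulay property of a morphism under base change.
-/

set_option autoImplicit false

universe u

open CategoryTheory AlgebraicGeometry IsLocalRing

namespace Groth.Agent.CMFlatLib

/-- The closed fibre ring of a map is noetherian. -/
def NoethFibre {R S : Type u} [CommRing R] [CommRing S] (g : R →+* S) : Prop :=
  IsNoetherianRing (S ⧸ (Ideal.span (nonunits R)).map g)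

theorem respectsIso_noethFibre : RingHom.RespectsIso @NoethFibre := by
  refine ⟨fun {R S T} _ _ _ g e h => ?_, fun {R S T} _ _ _ g e h => ?_⟩
  · haveI : IsNoetherianRing (S ⧸ (Ideal.span (nonunits R)).map g) := h
    exact isNoetherianRing_of_ringEquiv _
      (Ideal.quotientEquiv ((Ideal.span (nonunits R)).map g) ((Ideal.span (nonunits R)).map (e.toRingHom.comp g)) e
        (Ideal.map_map g (e : S →+* T)).symm)
  · haveI : IsNoetherianRing (T ⧸ (Ideal.span (nonunits S)).map g) := h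
    refine isNoetherianRing_of_ringEquiv _ (Ideal.quotEquivOfEq
      (I := (Ideal.span (nonunits S)).map g) (J := (Ideal.span (nonunits R)).map (g.comp e.toRingHom)) ?_)
    rw [← Ideal.map_map, map_span_nonunits e]

theorem isNoetherianRing_of_noethFibre {A B : Type u} [CommRing A] [CommRing B] [Algebra A B] (p : Ideal A) [p.IsPrime]
    (q : Ideal B) [q.IsPrime] [q.LiesOver p]
    (h : NoethFibre (Localization.localRingHom p q (algebraMap A B) (q.over_def p))) :
    IsNoetherianRing (Localization.AtPrime q ⧸ p.map (algebraMap A (Localization.AtPrime q))) := by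
  haveI : IsNoetherianRing (Localization.AtPrime q ⧸ (Ideal.span (nonunits (Localization.AtPrime p))).map
    (Localization.localRingHom p q (algebraMap A B) (q.over_def p))) := h
  refine isNoetherianRing_of_ringEquiv _ (Ideal.quotEquivOfEq (show (Ideal.span (nonunits (Localization.AtPrime p))).map
      (Localization.localRingHom p q (algebraMap A B) (q.over_def p)) = p.map (algebraMap A (Localization.AtPrime q)) by
    rw [span_nonunits, ← Localization.AtPrime.map_eq_maximalIdeal, Ideal.map_map]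
    congr 1
    ext a
    exact (Localization.localRingHom_to_map p q (algebraMap A B) (q.over_def p) a).trans (IsScalarTower.algebraMap_apply A B _ a).symm))

theorem appLE_stalkMap_iff {P : ∀ {R S : Type u} [CommRing R] [CommRing S], (R →+* S) → Prop} (hP : RingHom.RespectsIso P)
    {X Y : Scheme.{u}} (f : X ⟶ Y) {U : Y.Opens} (hU : IsAffineOpen U) {V : X.Opens} (hV : IsAffineOpen V)
    (hVU : V ≤ f ⁻¹ᵁ U) (x : X) (hx : x ∈ V) :
    P (f.stalkMap x).hom ↔ P (Localization.localRingHom (hU.primeIdealOf ⟨f x, hVU hx⟩).asIdeal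
      (hV.primeIdealOf ⟨x, hx⟩).asIdeal (f.appLE U V hVU).hom
      congr($(IsAffineOpen.comap_primeIdealOf_appLE U hU V hV hVU hx).1).symm) := by
  letI := (f.appLE U V hVU).hom.toAlgebra
  haveI : (hV.primeIdealOf ⟨x, hx⟩).asIdeal.LiesOver (hU.primeIdealOf ⟨f x, hVU hx⟩).asIdeal :=
    ⟨congr($(IsAffineOpen.comap_primeIdealOf_appLE U hU V hV hVU hx).1).symm⟩
  exact hP.arrow_mk_iso_iff (IsAffineOpen.arrowStalkMapIso f U hU V hV hVU hx)

variable {X Y X' Y' : Scheme.{u}} {f : X ⟶ Y} {f' : X' ⟶ Y'} {g' : X' ⟶ X} {g : Y' ⟶ Y}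

/-- The closed fibre of a base change is Cohen–Macaulay iff the closed fibre downstairs is. -/
theorem cmFibre_isPullback_iff (hc : IsPullback g' f' f g) (x' : X') (hN : NoethFibre (f.stalkMap (g' x')).hom)
    (hft : LocallyOfFiniteType g ∨ LocallyOfFiniteType f) :
    CMFibre (f'.stalkMap x').hom ↔ CMFibre (f.stalkMap (g' x')).hom := by
  obtain ⟨V, W, V', hV, hW, hV', e, e', hxW, hxV'⟩ := PullbackMod.exists_affines hc x'
  obtain ⟨hW', hpo⟩ := PullbackMod.isPushout_appLE hc hV hW hV' e e'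
  have hx' : x' ∈ g' ⁻¹ᵁ W ⊓ f' ⁻¹ᵁ V' := ⟨hxW, hxV'⟩
  letI : Algebra Γ(Y, V) Γ(X, W) := (f.appLE V W e).hom.toAlgebra
  letI : Algebra Γ(Y, V) Γ(Y', V') := (g.appLE V V' e').hom.toAlgebra
  letI : Algebra Γ(X, W) Γ(X', g' ⁻¹ᵁ W ⊓ f' ⁻¹ᵁ V') := (g'.appLE W _ inf_le_left).hom.toAlgebra
  letI : Algebra Γ(Y', V') Γ(X', g' ⁻¹ᵁ W ⊓ f' ⁻¹ᵁ V') := (f'.appLE V' _ inf_le_right).hom.toAlgebra
  letI : Algebra Γ(Y, V) Γ(X', g' ⁻¹ᵁ W ⊓ f' ⁻¹ᵁ V') :=
    ((g'.appLE W _ inf_le_left).hom.comp (f.appLE V W e).hom).toAlgebra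
  haveI : IsScalarTower Γ(Y, V) Γ(X, W) Γ(X', g' ⁻¹ᵁ W ⊓ f' ⁻¹ᵁ V') := .of_algebraMap_eq fun _ => rfl
  haveI : IsScalarTower Γ(Y, V) Γ(Y', V') Γ(X', g' ⁻¹ᵁ W ⊓ f' ⁻¹ᵁ V') := .of_algebraMap_eq' (by
      show ((f.appLE V W e) ≫ g'.appLE W _ inf_le_left).hom =
        ((g.appLE V V' e') ≫ f'.appLE V' _ inf_le_right).hom
      simp only [Scheme.Hom.appLE_comp_appLE, hc.w])
  haveI : Algebra.IsPushout Γ(Y, V) Γ(Y', V') Γ(X, W) Γ(X', g' ⁻¹ᵁ W ⊓ f' ⁻¹ᵁ V') := hpo
  let q' := (hW'.primeIdealOf ⟨x', hx'⟩).asIdeal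
  let q := (hW.primeIdealOf ⟨g' x', hxW⟩).asIdeal
  let p' := (hV'.primeIdealOf ⟨f' x', hxV'⟩).asIdeal
  let p := (hV.primeIdealOf ⟨f (g' x'), e hxW⟩).asIdeal
  haveI : q.LiesOver p := ⟨congr($(IsAffineOpen.comap_primeIdealOf_appLE V hV W hW e hxW).1).symm⟩
  haveI : q'.LiesOver p' := ⟨congr($(IsAffineOpen.comap_primeIdealOf_appLE V' hV' _ hW' inf_le_right hx').1).symm⟩
  haveI : q'.LiesOver q := ⟨congr($(IsAffineOpen.comap_primeIdealOf_appLE W hW _ hW' inf_le_left hx').1).symm⟩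
  haveI : p'.LiesOver p := by
    have h1 : p = q'.under Γ(Y, V) := (Ideal.LiesOver.trans q' q p).over
    exact ⟨h1.trans (Ideal.LiesOver.trans q' p' (p'.under Γ(Y, V))).over.symm⟩
  haveI := isNoetherianRing_of_noethFibre p q
    ((appLE_stalkMap_iff respectsIso_noethFibre f hV hW e _ hxW).1 hN)
  have hA : Algebra.EssFiniteType Γ(Y, V) Γ(Y', V') ∨ Algebra.EssFiniteType Γ(Y, V) Γ(X, W) := by
    refine hft.imp (fun h => ?_) fun h => ?_
    · haveI := h
      haveI : Algebra.FiniteType Γ(Y, V) Γ(Y', V') := g.finiteType_appLE hV hV' e'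
      infer_instance
    · haveI := h
      haveI : Algebra.FiniteType Γ(Y, V) Γ(X, W) := f.finiteType_appLE hV hW e
      infer_instance
  rw [appLE_stalkMap_iff respectsIso_cmFibre f hV hW e _ hxW,
    appLE_stalkMap_iff respectsIso_cmFibre f' hV' hW' inf_le_right x' hx']
  exact cmFibre_baseChange_iff p p' q q' hA

theorem noethFibre_of_isLocallyNoetherian (x : X) (h : IsLocallyNoetherian (f.fiber (f x))) :
    NoethFibre (f.stalkMap x).hom :=
  isNoetherianRing_fibre f x (haveI := h; inferInstance)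

/-- Flatness at a point is inherited by base changes. -/
theorem flat_stalkMap_baseChange (hc : IsPullback g' f' f g) (x' : X') (h : (f.stalkMap (g' x')).hom.Flat) :
    (f'.stalkMap x').hom.Flat :=
  PullbackMod.flat_stalkMap_of_isPullback hc.flip x' h

/-- Flatness at a point descends along a base change that is flat at the point. -/
theorem flat_stalkMap_descend (hc : IsPullback g' f' f g) (x' : X') (hg : (g.stalkMap (f' x')).hom.Flat)
    (h : (f'.stalkMap x').hom.Flat) : (f.stalkMap (g' x')).hom.Flat := by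
  have h1 := (FlatDescStalk.flat_stalkMap_comp_iff f' g x' h).2 hg
  have key : ∀ k : X' ⟶ Y, k = f' ≫ g → (k.stalkMap x').hom.Flat := by rintro k rfl; exact h1
  exact (FlatDescStalk.flat_stalkMap_comp_iff g' f x' (PullbackMod.flat_stalkMap_of_isPullback hc x' hg)).1
    (key _ hc.w)

end Groth.Agent.CMFlatLib
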