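import Groth.Agent.CMFlatLib.BaseChange
import Groth.Agent.CMFlatLib.Locus
import Groth.Agent.GenFree.Algebra
import Groth.Agent.ConstrNoeth.Basic
import Mathlib.RingTheory.Extension.Presentation.Core

/-!
The Cohen–Macaulay locus of the fibres of a finitely presented algebra is constructible.
-/

set_option autoImplicit false

universe u

open CategoryTheory AlgebraicGeometry IsLocalRing TensorProduct Topology

namespace Groth.Agent.CMFlatLib

/-- The primes at which the fibre is Cohen–Macaulay. -/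
def CMSet (A B : Type u) [CommRing A] [CommRing B] [Algebra A B] : Set (PrimeSpectrum B) :=
  {q | CMFibre (Localization.localRingHom (q.asIdeal.under A) q.asIdeal (algebraMap A B) rfl)}

theorem cmFibre_congr_under {A B : Type u} [CommRing A] [CommRing B] [Algebra A B] (q : Ideal B) [q.IsPrime]
    (p : Ideal A) [p.IsPrime] (hp : p = q.under A) :
    CMFibre (Localization.localRingHom p q (algebraMap A B) hp) ↔
      CMFibre (Localization.localRingHom (q.under A) q (algebraMap A B) rfl) := by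
  subst hp; rfl

theorem mem_cmSet_iff_isCMAt {A B : Type u} [CommRing A] [CommRing B] [Algebra A B] (q : PrimeSpectrum B)
    (hflat : Module.Flat A B) :
    q ∈ CMSet A B ↔ MoreMor.IsCMAt (Spec.map (CommRingCat.ofHom (algebraMap A B))) q := by
  haveI : q.asIdeal.LiesOver (PrimeSpectrum.comap (algebraMap A B) q).asIdeal := ⟨rfl⟩
  rw [isCMAt_iff, spec_stalkMap_iff (P := fun {R S} _ _ g => RingHom.Flat g) RingHom.Flat.respectsIso (algebraMap A B) q,
    spec_stalkMap_iff respectsIso_cmFibre (algebraMap A B) q, localRingHom_flat_iff]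
  have hfl : Module.Flat A (Localization.AtPrime q.asIdeal) :=
    Module.Flat.trans A B (Localization.AtPrime q.asIdeal)
  rw [and_iff_right hfl]
  rfl

theorem isOpen_cmSet {A B : Type u} [CommRing A] [CommRing B] [Algebra A B] [Algebra.FinitePresentation A B]
    [Module.Flat A B] : IsOpen (CMSet A B) := by
  haveI : LocallyOfFinitePresentation (Spec.map (CommRingCat.ofHom (algebraMap A B))) :=
    HasRingHomProperty.Spec_iff.2 (RingHom.finitePresentation_algebraMap.2 inferInstance)
  haveI : AlgebraicGeometry.Flat (Spec.map (CommRingCat.ofHom (algebraMap A B))) :=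
    HasRingHomProperty.Spec_iff.2 (RingHom.flat_algebraMap_iff.2 inferInstance)
  rw [show CMSet A B = {q : PrimeSpectrum B | MoreMor.IsCMAt (Spec.map (CommRingCat.ofHom (algebraMap A B))) q} from
    Set.ext fun q => mem_cmSet_iff_isCMAt q inferInstance]
  exact isOpen_isCMAt (Spec.map (CommRingCat.ofHom (algebraMap A B)))

theorem cmSet_baseChange {A A' B B' : Type u} [CommRing A] [CommRing A'] [CommRing B] [CommRing B']
    [Algebra A A'] [Algebra A B] [Algebra A' B'] [Algebra B B'] [Algebra A B']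
    [IsScalarTower A A' B'] [IsScalarTower A B B'] [Algebra.IsPushout A A' B B'] [Algebra.FiniteType A B] :
    CMSet A' B' = PrimeSpectrum.comap (algebraMap B B') ⁻¹' CMSet A B := by
  ext Q
  let q' := Q.asIdeal
  let q := q'.under B
  let p' := q'.under A'
  let p := q.under A
  haveI : q'.LiesOver p' := ⟨rfl⟩
  haveI : q'.LiesOver q := ⟨rfl⟩
  haveI : q.LiesOver p := ⟨rfl⟩
  haveI : p'.LiesOver p := ⟨by
    show (q'.under B).under A = (q'.under A').under A
    rw [Ideal.under_under, Ideal.under_under]⟩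
  obtain ⟨eB⟩ : Nonempty (Localization.AtPrime q ⧸ p.map (algebraMap A (Localization.AtPrime q)) ≃+*
      Localization.AtPrime (PrimeSpectrum.preimageEquivFiber A B ⟨p, inferInstance⟩
        ⟨⟨q, inferInstance⟩, rfl⟩).asIdeal) :=
    exists_quotLocal_equiv p q _ (congrArg (fun z => z.1.asIdeal)
      ((PrimeSpectrum.preimageEquivFiber A B ⟨p, inferInstance⟩).symm_apply_apply ⟨⟨q, inferInstance⟩, rfl⟩))
  haveI : IsNoetherianRing (p.Fiber B) := Algebra.FiniteType.isNoetherianRing p.ResidueField _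
  haveI := isNoetherianRing_of_ringEquiv _ eB.symm
  exact cmFibre_baseChange_iff p p' q q' (Or.inr inferInstance)

theorem cmSet_algEquiv {A B B' : Type u} [CommRing A] [CommRing B] [CommRing B'] [Algebra A B] [Algebra A B']
    (e : B ≃ₐ[A] B') : CMSet A B' = PrimeSpectrum.comap e.toRingEquiv.toRingHom ⁻¹' CMSet A B := by
  ext Q
  let q := (PrimeSpectrum.comap e.toRingEquiv.toRingHom Q).asIdeal
  have hp : q.under A = Q.asIdeal.under A := by
    ext a
    show e (algebraMap A B a) ∈ Q.asIdeal ↔ algebraMap A B' a ∈ Q.asIdeal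
    rw [e.commutes]
  have h1 : Localization.localRingHom (q.under A) Q.asIdeal (algebraMap A B') hp =
      (Localization.localRingEquiv q Q.asIdeal e.toRingEquiv rfl).toRingHom.comp
        (Localization.localRingHom (q.under A) q (algebraMap A B) rfl) := by
    refine IsLocalization.ringHom_ext (q.under A).primeCompl (RingHom.ext fun a => ?_)
    simp only [RingHom.comp_apply, Localization.localRingHom_to_map]
    show _ = Localization.localRingHom q Q.asIdeal e.toRingEquiv rfl (algebraMap B _ (algebraMap A B a))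
    rw [Localization.localRingHom_to_map]
    exact congrArg _ (e.commutes a).symm
  show CMFibre _ ↔ CMFibre _
  rw [← cmFibre_congr_under Q.asIdeal (q.under A) hp, h1]
  refine ⟨fun h => ?_, fun h => respectsIso_cmFibre.1 _ _ h⟩
  have := respectsIso_cmFibre.1 _ (Localization.localRingEquiv q Q.asIdeal e.toRingEquiv rfl).symm h
  rwa [← RingHom.comp_assoc, show (Localization.localRingEquiv q Q.asIdeal e.toRingEquiv rfl).symm.toRingHom.comp
    (Localization.localRingEquiv q Q.asIdeal e.toRingEquiv rfl).toRingHom = RingHom.id _ from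
      RingHom.ext fun z => (Localization.localRingEquiv q Q.asIdeal e.toRingEquiv rfl).symm_apply_apply z, RingHom.id_comp] at this

/-- A ring map that is surjective up to units is inducing on spectra. -/
theorem exists_isOpen_preimage {B C : Type u} [CommRing B] [CommRing C] (φ : B →+* C)
    (h : ∀ c : C, ∃ s b : B, IsUnit (φ s) ∧ φ s * c = φ b) {W : Set (PrimeSpectrum C)} (hW : IsOpen W) :
    ∃ U : Set (PrimeSpectrum B), IsOpen U ∧ PrimeSpectrum.comap φ ⁻¹' U = W := by
  refine ⟨⋃ b ∈ {b : B | (PrimeSpectrum.basicOpen (φ b) : Set (PrimeSpectrum C)) ⊆ W},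
    (PrimeSpectrum.basicOpen b : Set (PrimeSpectrum B)), isOpen_biUnion fun b _ => (PrimeSpectrum.basicOpen b).2, ?_⟩
  refine subset_antisymm ?_ fun P hP => ?_
  · intro P hP
    simp only [Set.mem_preimage, Set.mem_iUnion] at hP
    obtain ⟨b, hb, hPb⟩ := hP
    exact hb hPb
  · obtain ⟨_, ⟨c, rfl⟩, hPc, hc⟩ := PrimeSpectrum.isTopologicalBasis_basic_opens.exists_subset_of_mem_open hP hW
    obtain ⟨s, b, hu, hb⟩ := h c
    have heq : ∀ Q : PrimeSpectrum C, φ b ∈ Q.asIdeal ↔ c ∈ Q.asIdeal := fun Q => by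
      rw [← hb]
      exact Ideal.unit_mul_mem_iff_mem _ hu
    simp only [Set.mem_preimage, Set.mem_iUnion]
    exact ⟨b, fun Q hQ => hc fun hcQ => hQ ((heq Q).2 hcQ), fun hbP => hPc ((heq P).1 hbP)⟩

theorem exists_mul_eq_one_tmul {A A' B : Type u} [CommRing A] [CommRing A'] [CommRing B] [Algebra A A'] [Algebra A B]
    (h : ∀ a' : A', ∃ s a : A, IsUnit (algebraMap A A' s) ∧ algebraMap A A' s * a' = algebraMap A A' a)
    (z : A' ⊗[A] B) : ∃ s b : B, IsUnit ((1 : A') ⊗ₜ[A] s : A' ⊗[A] B) ∧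
      ((1 : A') ⊗ₜ[A] s : A' ⊗[A] B) * z = 1 ⊗ₜ[A] b := by
  induction z with
  | zero => exact ⟨1, 0, by simpa [Algebra.TensorProduct.one_def] using isUnit_one (M := A' ⊗[A] B), by simp⟩
  | tmul a' b =>
    obtain ⟨s, a, hu, he⟩ := h a'
    refine ⟨algebraMap A B s, a • b, ?_, ?_⟩
    · rw [Algebra.algebraMap_eq_smul_one, ← smul_tmul, Algebra.smul_def, mul_one]
      exact hu.map (Algebra.TensorProduct.includeLeft (R := A) (S := A) (A := A') (B := B))
    · rw [Algebra.TensorProduct.tmul_mul_tmul, one_mul, ← Algebra.smul_def, ← smul_tmul, ← smul_tmul,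
        Algebra.smul_def, he, Algebra.smul_def, mul_one]
  | add x y hx hy =>
    obtain ⟨s, b, hs, hb⟩ := hx
    obtain ⟨t, c, ht, hc⟩ := hy
    refine ⟨s * t, t * b + s * c, ?_, ?_⟩
    · rw [show ((1 : A') ⊗ₜ[A] (s * t) : A' ⊗[A] B) = (1 ⊗ₜ s) * (1 ⊗ₜ t) by simp]
      exact hs.mul ht
    · rw [show ((1 : A') ⊗ₜ[A] (s * t) : A' ⊗[A] B) = (1 ⊗ₜ s) * (1 ⊗ₜ t) by simp, tmul_add, mul_add,
        show ((1 : A') ⊗ₜ[A] (t * b) : A' ⊗[A] B) = (1 ⊗ₜ t) * (1 ⊗ₜ b) by simp,
        show ((1 : A') ⊗ₜ[A] (s * c) : A' ⊗[A] B) = (1 ⊗ₜ s) * (1 ⊗ₜ c) by simp, ← hb, ← hc]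
      ring

attribute [local instance] Algebra.TensorProduct.rightAlgebra

/-- On a dense open piece of every irreducible closed set of the base, the CM set is relatively open. -/
theorem exists_relatively_open {A B : Type u} [CommRing A] [CommRing B] [Algebra A B] [IsNoetherianRing A]
    [Algebra.FiniteType A B] (p : Ideal A) [p.IsPrime] :
    ∃ f ∉ p, ∃ U : Set (PrimeSpectrum B), IsOpen U ∧
      ∀ q : PrimeSpectrum B, p ≤ q.asIdeal.under A → f ∉ q.asIdeal.under A → (q ∈ CMSet A B ↔ q ∈ U) := by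
  haveI : IsDomain (A ⧸ p) := Ideal.Quotient.isDomain p
  obtain ⟨g, -, hg0, hfree, -⟩ := GenFree.exists_algebra (R := A ⧸ p) (S := (A ⧸ p) ⊗[A] B) one_ne_zero
  obtain ⟨f, rfl⟩ := Ideal.Quotient.mk_surjective g
  refine ⟨f, fun hf => hg0 (Ideal.Quotient.eq_zero_iff_mem.2 hf), ?_⟩
  let A2 := Localization.Away (Ideal.Quotient.mk p f)
  haveI : Module.Free A2 (A2 ⊗[A ⧸ p] ((A ⧸ p) ⊗[A] B)) :=
    hfree.free A2 (IsLocalization.Away.algebraMap_isUnit _)
  haveI : Module.Flat A2 (A2 ⊗[A] B) := Module.Flat.of_linearEquiv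
    (AlgebraTensorModule.cancelBaseChange A (A ⧸ p) A2 A2 B).symm
  haveI : IsNoetherianRing A2 := IsLocalization.isNoetherianRing (Submonoid.powers (Ideal.Quotient.mk p f)) _ inferInstance
  haveI : Algebra.FinitePresentation A2 (A2 ⊗[A] B) := Algebra.FinitePresentation.of_finiteType.1 inferInstance
  obtain ⟨U, hU, hUW⟩ := exists_isOpen_preimage (algebraMap B (A2 ⊗[A] B))
    (exists_mul_eq_one_tmul (B := B) fun a' => by
      obtain ⟨x, ⟨y, ⟨n, rfl⟩⟩, rfl⟩ := IsLocalization.exists_mk'_eq (Submonoid.powers (Ideal.Quotient.mk p f)) a'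
      obtain ⟨a, rfl⟩ := Ideal.Quotient.mk_surjective x
      refine ⟨f ^ n, a, ?_, ?_⟩
      · rw [map_pow, IsScalarTower.algebraMap_apply A (A ⧸ p) A2, Ideal.Quotient.algebraMap_eq]
        exact (IsLocalization.Away.algebraMap_isUnit _).pow n
      · rw [IsScalarTower.algebraMap_apply A (A ⧸ p) A2, IsScalarTower.algebraMap_apply A (A ⧸ p) A2 a,
          Ideal.Quotient.algebraMap_eq, map_pow, mul_comm]
        exact IsLocalization.mk'_spec A2 (Ideal.Quotient.mk p a)
          (⟨Ideal.Quotient.mk p f ^ n, ⟨n, rfl⟩⟩ : Submonoid.powers (Ideal.Quotient.mk p f)))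
    (isOpen_cmSet (A := A2) (B := A2 ⊗[A] B))
  refine ⟨U, hU, fun q hpq hfq => ?_⟩
  -- the point of the piece over `q`
  let κ := q.asIdeal.ResidueField
  have h0 : ∀ a ∈ p, algebraMap A κ a = 0 := fun a ha => by
    rw [IsScalarTower.algebraMap_apply A B κ]
    exact Ideal.algebraMap_residueField_eq_zero.2 (hpq ha)
  let ψ : A2 →+* κ := IsLocalization.Away.lift (g := Ideal.Quotient.lift p (algebraMap A κ) h0)
    (Ideal.Quotient.mk p f) (by
      rw [Ideal.Quotient.lift_mk, IsScalarTower.algebraMap_apply A B κ]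
      exact Ne.isUnit fun h => hfq ((Ideal.algebraMap_residueField_eq_zero (I := q.asIdeal)).1 h))
  have hψ : ∀ a : A, ψ (algebraMap A A2 a) = algebraMap A κ a := fun a => by
    rw [IsScalarTower.algebraMap_apply A (A ⧸ p) A2]
    exact (IsLocalization.Away.lift_eq _ _ _).trans (Ideal.Quotient.lift_mk _ _ _)
  let ψ' : A2 →ₐ[A] κ := { ψ with commutes' := hψ }
  let Φ : A2 ⊗[A] B →ₐ[A] κ := Algebra.TensorProduct.productMap ψ' (IsScalarTower.toAlgHom A B κ)
  let Q : PrimeSpectrum (A2 ⊗[A] B) := ⟨RingHom.ker Φ.toRingHom, RingHom.ker_isPrime _⟩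
  have hQ : PrimeSpectrum.comap (algebraMap B (A2 ⊗[A] B)) Q = q := by
    refine PrimeSpectrum.ext (Ideal.ext fun b => ?_)
    show Φ ((1 : A2) ⊗ₜ[A] b) = 0 ↔ b ∈ q.asIdeal
    rw [show Φ ((1 : A2) ⊗ₜ[A] b) = algebraMap B κ b by simp [Φ, Algebra.TensorProduct.productMap_apply_tmul]]
    exact Ideal.algebraMap_residueField_eq_zero
  have h1 := Set.ext_iff.1 (cmSet_baseChange (A := A) (A' := A2) (B := B) (B' := A2 ⊗[A] B)) Q
  have h2 := Set.ext_iff.1 hUW Q
  rw [Set.mem_preimage, hQ] at h1 h2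
  exact h1.symm.trans h2.symm

theorem isConstructible_cmSet_noetherian {A B : Type u} [CommRing A] [CommRing B] [Algebra A B] [IsNoetherianRing A]
    [Algebra.FiniteType A B] : IsConstructible (CMSet A B) := by
  haveI : IsNoetherianRing B := Algebra.FiniteType.isNoetherianRing A B
  refine ConstrNoeth.isConstructible_of_irreducible fun Y hY hirr hd => ?_
  obtain ⟨η, hη⟩ := QuasiSober.sober hirr hY
  obtain ⟨f, hf, U, hU, hUE⟩ := exists_relatively_open (B := B) (η.asIdeal.under A)
  have hspec : ∀ q ∈ Y, η.asIdeal.under A ≤ q.asIdeal.under A := fun q hq =>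
    Ideal.comap_mono ((PrimeSpectrum.le_iff_specializes η q).2 (hη.specializes hq))
  let D : Set (PrimeSpectrum B) := PrimeSpectrum.basicOpen (algebraMap A B f)
  refine ⟨U ∩ D, hU.inter (PrimeSpectrum.basicOpen _).2, ?_, fun q hq => ?_⟩
  · obtain ⟨e, heD, he, heY⟩ := mem_closure_iff.1 (hd hη.mem) D (PrimeSpectrum.basicOpen _).2 hf
    exact ⟨e, ⟨(hUE e (hspec e heY) heD).1 he, heD⟩, heY⟩
  · exact (hUE q (hspec q hq.2) hq.1.2).2 hq.1.1

theorem isConstructible_comap {B C : Type u} [CommRing B] [CommRing C] (φ : B →+* C) {s : Set (PrimeSpectrum B)}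
    (hs : IsConstructible s) : IsConstructible (PrimeSpectrum.comap φ ⁻¹' s) := by
  refine hs.preimage (PrimeSpectrum.continuous_comap φ) fun t ht htc => ?_
  refine IsCompact.isRetrocompact ?_ (ht.preimage (PrimeSpectrum.continuous_comap φ))
  exact (Spec.map (CommRingCat.ofHom φ)).isCompact_preimage (U := ⟨t, ht⟩) htc.isCompact

theorem isConstructible_cmSet (A B : Type u) [CommRing A] [CommRing B] [Algebra A B]
    [Algebra.FinitePresentation A B] : IsConstructible (CMSet A B) := by
  let P := Algebra.Presentation.ofFinitePresentation A B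
  haveI : IsNoetherianRing P.Core := Algebra.FiniteType.isNoetherianRing ℤ P.Core
  let e := P.tensorModelOfHasCoeffsEquiv P.Core
  rw [cmSet_algEquiv (A := A) (B := A ⊗[P.Core] P.ModelOfHasCoeffs P.Core) (B' := B) e, cmSet_baseChange (A := P.Core) (B := P.ModelOfHasCoeffs P.Core)]
  exact isConstructible_comap _ (isConstructible_comap _ isConstructible_cmSet_noetherian)

end Groth.Agent.CMFlatLib
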