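import Groth.Agent.CMFlatLib.Local
import Groth.Agent.QFCoverLib.Basic
import Groth.Agent.DimFormulaLib.Component
import Groth.Agent.DimFormulaLib.Chart

/-!
The local ring of the fibre as a quotient of the local ring, and quasi-finite points.
-/

set_option autoImplicit false

universe u

open IsLocalRing TensorProduct

namespace Groth.Agent.CMFlatLib

variable {A B : Type u} [CommRing A] [CommRing B] [Algebra A B]

/-- The local ring of the fibre is the quotient of the local ring. -/
theorem exists_quotLocal_equiv (p : Ideal A) [p.IsPrime] (q : Ideal B) [q.IsPrime] [q.LiesOver p]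
    (Q : Ideal (p.Fiber B)) [Q.IsPrime]
    (hQ : Q.comap (Algebra.TensorProduct.includeRight : B →ₐ[A] p.Fiber B).toRingHom = q) :
    Nonempty (Localization.AtPrime q ⧸ p.map (algebraMap A (Localization.AtPrime q)) ≃+* Localization.AtPrime Q) := by
  let ι : B →+* p.Fiber B := (Algebra.TensorProduct.includeRight : B →ₐ[A] p.Fiber B).toRingHom
  let φ := Localization.localRingHom q Q ι hQ.symm
  have hone : ∀ a : A, ι (algebraMap A B a) = algebraMap A (p.Fiber B) a := fun a =>
    (Algebra.TensorProduct.includeRight : B →ₐ[A] p.Fiber B).commutes a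
  have hunit : ∀ r ∉ p, IsUnit (algebraMap A (p.Fiber B) r) := fun r hr => by
    rw [IsScalarTower.algebraMap_apply A p.ResidueField (p.Fiber B)]
    exact (Ne.isUnit (fun h => hr (Ideal.algebraMap_residueField_eq_zero.1 h))).map _
  have hnotq : ∀ r ∉ p, algebraMap A B r ∉ q := fun r hr h => hr ((q.over_def p).ge h)
  have hclear : ∀ z : p.Fiber B, ∃ r ∉ p, ∃ b : B, ι (algebraMap A B r) * z = ι b := fun z => by
    obtain ⟨r, hr, b, e⟩ := Ideal.Fiber.exists_smul_eq_one_tmul p z
    refine ⟨r, hr, b, ?_⟩
    rw [hone, ← Algebra.smul_def, e]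
    rfl
  have hmemQ : ∀ b : B, ι b ∈ Q ↔ b ∈ q := fun b => by rw [← hQ]; rfl
  have hsurj : Function.Surjective φ := fun z => by
    obtain ⟨x, ⟨s, hs⟩, rfl⟩ := IsLocalization.exists_mk'_eq Q.primeCompl z
    obtain ⟨r, hr, b, hb⟩ := hclear x
    obtain ⟨r', hr', b', hb'⟩ := hclear s
    have hb'q : b' ∉ q := fun h => by
      have h1 : ι (algebraMap A B r') * s ∈ Q := hb' ▸ (hmemQ b').2 h
      rcases Ideal.IsPrime.mem_or_mem inferInstance h1 with h2 | h2
      · exact hnotq r' hr' ((hmemQ _).1 h2)
      · exact hs h2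
    refine ⟨IsLocalization.mk' _ (b * algebraMap A B r') (⟨b' * algebraMap A B r, fun h =>
      ((inferInstance : q.IsPrime).mem_or_mem h).elim hb'q (hnotq r hr)⟩ : q.primeCompl), ?_⟩
    rw [Localization.localRingHom_mk']
    refine IsLocalization.mk'_eq_of_eq ?_
    show ι (b' * algebraMap A B r) * x = s * ι (b * algebraMap A B r')
    rw [map_mul, map_mul, ← hb, ← hb']
    ring
  have hker : RingHom.ker φ = p.map (algebraMap A (Localization.AtPrime q)) := by
    rw [IsScalarTower.algebraMap_eq A B (Localization.AtPrime q), ← Ideal.map_map]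
    refine le_antisymm (fun z hz => ?_) (Ideal.map_le_iff_le_comap.2 (Ideal.map_le_iff_le_comap.2 fun a ha => ?_))
    · obtain ⟨b, ⟨s, hs⟩, rfl⟩ := IsLocalization.exists_mk'_eq q.primeCompl z
      rw [RingHom.mem_ker, Localization.localRingHom_mk', IsLocalization.mk'_eq_zero_iff] at hz
      obtain ⟨⟨u, hu⟩, hu0⟩ := hz
      obtain ⟨r, hr, b', hb'⟩ := hclear u
      have hb'q : b' ∉ q := fun h => by
        have h1 : ι (algebraMap A B r) * u ∈ Q := hb' ▸ (hmemQ b').2 h
        rcases Ideal.IsPrime.mem_or_mem inferInstance h1 with h2 | h2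
        · exact hnotq r hr ((hmemQ _).1 h2)
        · exact hu h2
      have h0 : ι (b' * b) = 0 := by rw [map_mul, ← hb', mul_assoc, hu0, mul_zero]
      obtain ⟨r', hr', hmem⟩ := QFCoverLib.exists_mul_mem_of_tmul_eq_zero p (z := b' * b) h0
      rw [IsLocalization.mk'_mem_map_algebraMap_iff]
      exact ⟨algebraMap A B r' * b', fun h => ((inferInstance : q.IsPrime).mem_or_mem h).elim (hnotq r' hr') hb'q,
        by rw [mul_assoc]; exact hmem⟩
    · show φ (algebraMap B (Localization.AtPrime q) (algebraMap A B a)) = 0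
      rw [Localization.localRingHom_to_map, hone, IsScalarTower.algebraMap_apply A p.ResidueField (p.Fiber B),
        Ideal.algebraMap_residueField_eq_zero.2 ha, map_zero, map_zero]
  exact ⟨(Ideal.quotEquivOfEq hker.symm).trans (RingHom.quotientKerEquivOfSurjective hsurj)⟩

/-- At a quasi-finite point the maximal ideal of the base generates an ideal primary to the maximal ideal. -/
theorem radical_map_eq_of_quasiFiniteAt {T : Type u} [CommRing T] [Algebra T B] (q : Ideal B) [q.IsPrime]
    [Algebra.QuasiFiniteAt T q] :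
    ((q.under T).map (algebraMap T (Localization.AtPrime q))).radical = maximalIdeal (Localization.AtPrime q) := by
  have hmax : (maximalIdeal (Localization.AtPrime q)).under T = q.under T := by
    rw [← Ideal.under_under (A := T) (B := B), Localization.AtPrime.under_maximalIdeal]
  rw [Ideal.radical_eq_sInf]
  refine le_antisymm (sInf_le ⟨Ideal.map_le_iff_le_comap.2 hmax.ge, inferInstance⟩) (le_sInf ?_)
  rintro J ⟨hJ, hJp⟩
  have h1 : J.under T = (maximalIdeal (Localization.AtPrime q)).under T :=
    le_antisymm (Ideal.comap_mono (le_maximalIdeal hJp.ne_top)) (hmax.le.trans (Ideal.map_le_iff_le_comap.1 hJ))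
  exact (Algebra.QuasiFinite.eq_of_le_of_under_eq J (maximalIdeal _) (le_maximalIdeal hJp.ne_top) h1).ge

/-- At a quasi-finite point the residue extension is algebraic. -/
theorem trdeg_eq_of_quasiFiniteAt {T : Type u} [CommRing T] [Algebra A T] [Algebra T B] [IsScalarTower A T B]
    (p : Ideal A) [p.IsPrime] (P : Ideal T) [P.IsPrime] (q : Ideal B) [q.IsPrime] [P.LiesOver p] [q.LiesOver P]
    [q.LiesOver p] [Algebra.QuasiFiniteAt T q] :
    Algebra.trdeg (A ⧸ p) (B ⧸ q) = Algebra.trdeg (A ⧸ p) (T ⧸ P) := by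
  letI := Localization.AtPrime.algebraOfLiesOver P q
  haveI : Module.Finite P.ResidueField q.ResidueField := inferInstance
  have h0 : Algebra.trdeg (T ⧸ P) (B ⧸ q) = 0 := by
    rw [← DimFormulaLib.Chart.trdeg_primeResidueField P q]
    exact trdeg_eq_zero
  haveI : IsScalarTower (A ⧸ p) (T ⧸ P) (B ⧸ q) := IsScalarTower.of_algebraMap_eq fun a => by
    obtain ⟨a, rfl⟩ := Ideal.Quotient.mk_surjective a
    show Ideal.Quotient.mk q (algebraMap A B a) = Ideal.Quotient.mk q (algebraMap T B (algebraMap A T a))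
    rw [← IsScalarTower.algebraMap_apply]
  haveI : FaithfulSMul (A ⧸ p) (T ⧸ P) := inferInstance
  rw [← trdeg_add_eq (A ⧸ p) (T ⧸ P) (A := B ⧸ q), h0, add_zero]

end Groth.Agent.CMFlatLib
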