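import Mathlib
import Groth.Agent.FpqcDesc.Noeth

/-!
Locally noetherian fibres and base change.
-/

set_option autoImplicit false

universe u

open CategoryTheory CategoryTheory.Limits AlgebraicGeometry MorphismProperty
open scoped TensorProduct

namespace Groth.Agent.CMFlatLib

theorem isLocallyNoetherian_of_isPullback_field {k k' : CommRingCat.{u}} (φ : k ⟶ k') (hk : IsField k)
    (hφ : φ.hom.EssFiniteType) {Z W : Scheme.{u}} (a : W ⟶ Z) (t' : W ⟶ Spec k') (t : Z ⟶ Spec k)
    (hc : IsPullback a t' t (Spec.map φ)) [IsLocallyNoetherian Z] : IsLocallyNoetherian W := by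
  have key : IsLocallyNoetherian (pullback t (Spec.map φ)) := by
    refine (isLocallyNoetherian_iff_openCover (Scheme.Pullback.openCoverOfLeft Z.affineCover t (Spec.map φ))).2 fun i => ?_
    show IsLocallyNoetherian (pullback (Z.affineCover.f i ≫ t) (Spec.map φ))
    obtain ⟨B, j, hj⟩ : ∃ (B : CommRingCat.{u}) (j : Spec B ≅ Z.affineCover.X i), True := ⟨_, Iso.refl _, trivial⟩
    haveI : IsLocallyNoetherian (Z.affineCover.X i) := isLocallyNoetherian_of_isOpenImmersion (Z.affineCover.f i)
    haveI : IsLocallyNoetherian (Spec B) := isLocallyNoetherian_of_isOpenImmersion j.hom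
    haveI : IsNoetherianRing B := by
      haveI : IsNoetherianRing Γ(Spec B, ⊤) := IsLocallyNoetherian.component_noetherian ⟨⊤, isAffineOpen_top _⟩
      exact isNoetherianRing_of_ringEquiv _ (Scheme.ΓSpecIso B).commRingCatIsoToRingEquiv
    obtain ⟨ψ, hψ⟩ := Spec.homEquiv.symm.surjective (j.hom ≫ Z.affineCover.f i ≫ t)
    have hψ' : Spec.map ψ = j.hom ≫ Z.affineCover.f i ≫ t := hψ
    algebraize [ψ.hom, φ.hom]
    haveI : IsNoetherianRing (B ⊗[k] k') := Algebra.EssFiniteType.isNoetherianRing B _
    have e1 : pullback (Spec.map ψ) (Spec.map φ) ≅ pullback (Z.affineCover.f i ≫ t) (Spec.map φ) :=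
      haveI : IsIso (pullback.map (Spec.map ψ) (Spec.map φ) (Z.affineCover.f i ≫ t) (Spec.map φ) j.hom (𝟙 _) (𝟙 _)
        ((Category.comp_id _).trans hψ') rfl) := pullback.map_isIso _ _ _ _ _ _ _ _ _
      asIso (pullback.map (Spec.map ψ) (Spec.map φ) (Z.affineCover.f i ≫ t) (Spec.map φ) j.hom (𝟙 _) (𝟙 _)
        ((Category.comp_id _).trans hψ') rfl)
    haveI : IsLocallyNoetherian (Spec (CommRingCat.of (B ⊗[k] k'))) := inferInstance
    exact isLocallyNoetherian_of_isOpenImmersion (e1.inv ≫ (pullbackSpecIso k B k').hom)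
  exact isLocallyNoetherian_of_isOpenImmersion hc.isoPullback.hom

variable {X Y X' Y' : Scheme.{u}} {f : X ⟶ Y} {f' : X' ⟶ Y'} {g' : X' ⟶ X} {g : Y' ⟶ Y}

/-- The map of fibres of a cartesian square is a base change along the residue field extension. -/
theorem exists_isPullback_fibre (hc : IsPullback g' f' f g) (y' : Y') :
    ∃ a : f'.fiber y' ⟶ f.fiber (g y'), IsPullback a (f'.fiberToSpecResidueField y') (f.fiberToSpecResidueField (g y'))
      (Spec.map (g.residueFieldMap y')) := by
  have hw : Spec.map (g.residueFieldMap y') ≫ Y.fromSpecResidueField (g y') = Y'.fromSpecResidueField y' ≫ g :=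
    Scheme.Hom.SpecMap_residueFieldMap_fromSpecResidueField g y'
  have h1 : IsPullback (f'.fiberι y' ≫ g') (f'.fiberToSpecResidueField y') f (Y'.fromSpecResidueField y' ≫ g) :=
    (IsPullback.of_hasPullback f' (Y'.fromSpecResidueField y')).paste_horiz hc
  let a : f'.fiber y' ⟶ f.fiber (g y') := pullback.lift (f'.fiberι y' ≫ g')
    (f'.fiberToSpecResidueField y' ≫ Spec.map (g.residueFieldMap y')) (by rw [Category.assoc, Category.assoc, hw]; exact h1.w)
  refine ⟨a, IsPullback.of_right ?_ ?_ (IsPullback.of_hasPullback f (Y.fromSpecResidueField (g y')))⟩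
  · rw [hw]
    convert h1 using 1
    exact pullback.lift_fst _ _ _
  · exact pullback.lift_snd _ _ _

theorem isLocallyNoetherian_fibre_baseChange (hc : IsPullback g' f' f g) [LocallyOfFiniteType g] (y' : Y')
    (h : IsLocallyNoetherian (f.fiber (g y'))) : IsLocallyNoetherian (f'.fiber y') := by
  haveI := h
  obtain ⟨a, ha⟩ := exists_isPullback_fibre hc y'
  exact isLocallyNoetherian_of_isPullback_field (g.residueFieldMap y') (Field.toIsField _)
    (RingHom.EssFiniteType.residueFieldMap (LocallyOfFiniteType.stalkMap g y')) a _ _ ha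

theorem isLocallyNoetherian_fibre_descend (hc : IsPullback g' f' f g) (y' : Y')
    (h : IsLocallyNoetherian (f'.fiber y')) : IsLocallyNoetherian (f.fiber (g y')) := by
  haveI := h
  obtain ⟨a, ha⟩ := exists_isPullback_fibre hc y'
  haveI : Flat (Spec.map (g.residueFieldMap y')) := (HasRingHomProperty.Spec_iff (P := @Flat)).2 (by
    letI := (g.residueFieldMap y').hom.toAlgebra
    exact RingHom.flat_algebraMap_iff.mpr inferInstance)
  haveI : Surjective (Spec.map (g.residueFieldMap y')) := ⟨fun z => ⟨IsLocalRing.closedPoint _, Subsingleton.elim _ _⟩⟩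
  haveI : Flat a := MorphismProperty.of_isPullback (P := @Flat) ha.flip inferInstance
  haveI : Surjective a := MorphismProperty.of_isPullback (P := @Surjective) ha.flip inferInstance
  haveI : QuasiCompact a := MorphismProperty.of_isPullback (P := @QuasiCompact) ha.flip inferInstance
  exact NoethDesc.of_quasiCompact a

end Groth.Agent.CMFlatLib
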