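import Mathlib
import Groth.Agent.CMFlatLib.FlatLocal
import Groth.Agent.GorLib.FieldExt
import Groth.Agent.GorLib.CM
import Groth.Agent.CMFlatLib.Chart

/-!
The Cohen–Macaulay property of fibres under base change.
-/

set_option autoImplicit false

universe u

open IsLocalRing TensorProduct

namespace Groth.Agent.CMFlatLib

/-- At a prime of the fibre over `p`, with image `r` in `S`. -/
theorem cm_fiber_iff {R S : Type u} [CommRing R] [CommRing S] [Algebra R S] [IsNoetherianRing R] [IsNoetherianRing S]
    [Module.Flat R S] (p : Ideal R) [p.IsPrime] (q : Ideal (p.Fiber S)) [q.IsPrime] (r : Ideal S) [r.IsPrime]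
    (hr : r = q.comap Algebra.TensorProduct.includeRight) :
    LocCoh.IsCohenMacaulayLocalRing (Localization.AtPrime r) ↔
      LocCoh.IsCohenMacaulayLocalRing (Localization.AtPrime p) ∧ LocCoh.IsCohenMacaulayLocalRing (Localization.AtPrime q) := by
  subst hr
  haveI hlo : (q.comap (Algebra.TensorProduct.includeRight : S →ₐ[R] p.Fiber S)).LiesOver p := by
    refine ⟨(Ideal.over_def q p).trans ?_⟩
    ext x
    simp only [Ideal.under_def, Ideal.mem_comap, AlgHom.commutes]
  letI := Localization.AtPrime.algebraOfLiesOver p (q.comap (Algebra.TensorProduct.includeRight : S →ₐ[R] p.Fiber S))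
  haveI : Localization.AtPrime.IsLiesOverAlgebra p (q.comap (Algebra.TensorProduct.includeRight : S →ₐ[R] p.Fiber S)) := ⟨rfl⟩
  haveI : IsLocalHom (algebraMap (Localization.AtPrime p)
      (Localization.AtPrime (q.comap (Algebra.TensorProduct.includeRight : S →ₐ[R] p.Fiber S)))) := by
    rw [Localization.AtPrime.IsLiesOverAlgebra.algebraMap_eq]
    infer_instance
  rw [cm_flat_local_iff (Localization.AtPrime p)]
  refine and_congr_right fun _ => ?_
  have e1 : (maximalIdeal (Localization.AtPrime p)).map (algebraMap (Localization.AtPrime p)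
      (Localization.AtPrime (q.comap (Algebra.TensorProduct.includeRight : S →ₐ[R] p.Fiber S)))) =
      p.map (algebraMap R _) := by
    rw [← Localization.AtPrime.map_eq_maximalIdeal, Ideal.map_map, ← IsScalarTower.algebraMap_eq]
  exact cm_congr ((Ideal.quotEquivOfEq e1).trans
    (Ideal.Fiber.localizationAlgEquivQuotient p q).toRingEquiv.symm)

/-- Base change along a field extension, for a noetherian algebra. -/
theorem cm_iff_baseChange (k k' : Type u) [Field k] [Field k'] [Algebra k k'] (B : Type u) [CommRing B]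
    [IsNoetherianRing B] [Algebra k B] [IsNoetherianRing (B ⊗[k] k')]
    (q : Ideal (B ⊗[k] k')) [q.IsPrime] (p : Ideal B) [p.IsPrime] (hp : q.comap (algebraMap B (B ⊗[k] k')) = p)
    (hfib : LocCoh.IsGorensteinRing (p.ResidueField ⊗[k] k')) :
    LocCoh.IsCohenMacaulayLocalRing (Localization.AtPrime p) ↔
      LocCoh.IsCohenMacaulayLocalRing (Localization.AtPrime q) := by
  let Q := PrimeSpectrum.primesOverOrderIsoFiber B (B ⊗[k] k') p ⟨q, ⟨inferInstance, ⟨hp.symm⟩⟩⟩
  have hQ : q = Q.asIdeal.comap Algebra.TensorProduct.includeRight := by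
    have := PrimeSpectrum.coe_primesOverOrderIsoFiber_symm_apply (R := B) (S := B ⊗[k] k') p Q
    rw [OrderIso.symm_apply_apply] at this
    exact this
  haveI : LocCoh.IsGorensteinRing (p.Fiber (B ⊗[k] k')) :=
    GorLib.gorensteinRing_of_ringEquiv (Algebra.TensorProduct.cancelBaseChange k B B p.ResidueField k').toRingEquiv.symm hfib
  rw [cm_fiber_iff p Q.asIdeal q hQ]
  refine ⟨fun h => ⟨h, ?_⟩, fun h => h.1⟩
  exact GorLib.isCohenMacaulay _ (LocCoh.IsGorensteinRing.isGorensteinLocalRing_localization _)

theorem isLocalization_atPrime_maximal (R : Type u) [CommRing R] [IsLocalRing R] :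
    IsLocalization.AtPrime R (maximalIdeal R) :=
  IsLocalization.self fun _ hx => notMem_maximalIdeal.mp hx

theorem gorenstein_residue_tensor (k k' K : Type u) [Field k] [Field k'] [Field K] [Algebra k k'] [Algebra k K]
    (hk : Algebra.EssFiniteType k k' ∨ Algebra.EssFiniteType k K) : LocCoh.IsGorensteinRing (K ⊗[k] k') := by
  rcases hk with h | h
  · haveI := GorLib.gorensteinRing_of_regular K
    exact GorLib.gorensteinRing_of_ringEquiv (Algebra.TensorProduct.comm k k' K).toRingEquiv
      (GorLib.gorensteinRing_baseChange k k' (GorLib.exists_adjoin_of_essFiniteType k k') K)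
  · haveI := GorLib.gorensteinRing_of_regular k'
    exact GorLib.gorensteinRing_baseChange k K (GorLib.exists_adjoin_of_essFiniteType k K) k'

/-- Base change along a field extension, at a point with noetherian local ring. -/
theorem cm_iff_baseChange_local (k k' : Type u) [Field k] [Field k'] [Algebra k k'] (B : Type u) [CommRing B]
    [Algebra k B] (q : Ideal (B ⊗[k] k')) [q.IsPrime] (p : Ideal B) [p.IsPrime]
    (hp : q.comap (algebraMap B (B ⊗[k] k')) = p) [IsNoetherianRing (Localization.AtPrime p)]
    (hk : Algebra.EssFiniteType k k' ∨ Algebra.EssFiniteType k B) :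
    LocCoh.IsCohenMacaulayLocalRing (Localization.AtPrime p) ↔
      LocCoh.IsCohenMacaulayLocalRing (Localization.AtPrime q) := by
  let M : Submonoid (B ⊗[k] k') := Algebra.algebraMapSubmonoid (B ⊗[k] k') p.primeCompl
  letI : Algebra (B ⊗[k] k') (Localization.AtPrime p ⊗[k] k') :=
    (Algebra.TensorProduct.map (IsScalarTower.toAlgHom k B (Localization.AtPrime p)) (AlgHom.id k k')).toRingHom.toAlgebra
  haveI : IsScalarTower B (B ⊗[k] k') (Localization.AtPrime p ⊗[k] k') :=
    IsScalarTower.of_algebraMap_eq fun b => by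
      simp [RingHom.algebraMap_toAlgebra, Algebra.TensorProduct.algebraMap_apply]
  haveI : IsLocalization M (Localization.AtPrime p ⊗[k] k') :=
    IsLocalization.tensorProduct_tensorProduct k k' p.primeCompl (Localization.AtPrime p) (by
      ext x; simp [RingHom.algebraMap_toAlgebra])
  have hdisj : Disjoint (M : Set (B ⊗[k] k')) (q : Set (B ⊗[k] k')) := by
    rw [Set.disjoint_left]
    rintro _ ⟨b, hb, rfl⟩ hbq
    exact hb (hp ▸ hbq : b ∈ p)
  let q2 := q.map (algebraMap (B ⊗[k] k') (Localization.AtPrime p ⊗[k] k'))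
  haveI : q2.IsPrime := IsLocalization.isPrime_of_isPrime_disjoint M _ q inferInstance hdisj
  have hq2 : q2.comap (algebraMap (B ⊗[k] k') (Localization.AtPrime p ⊗[k] k')) = q :=
    IsLocalization.comap_map_of_isPrime_disjoint M _ inferInstance hdisj
  -- the local ring downstairs
  have hmax : q2.comap (algebraMap (Localization.AtPrime p) (Localization.AtPrime p ⊗[k] k')) =
      maximalIdeal (Localization.AtPrime p) := by
    rw [← Localization.AtPrime.map_eq_maximalIdeal (I := p),
      ← IsLocalization.map_comap p.primeCompl (Localization.AtPrime p) (q2.comap _)]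
    congr 1
    rw [Ideal.under_def, Ideal.comap_comap, ← IsScalarTower.algebraMap_eq, IsScalarTower.algebraMap_eq B (B ⊗[k] k'),
      ← Ideal.comap_comap, hq2, hp]
  haveI : IsNoetherianRing (Localization.AtPrime p ⊗[k] k') := by
    rcases hk with h | h
    · exact Algebra.EssFiniteType.isNoetherianRing (Localization.AtPrime p) _
    · haveI : Algebra.EssFiniteType k (Localization.AtPrime p) := Algebra.EssFiniteType.comp k B _
      haveI : IsNoetherianRing (k' ⊗[k] Localization.AtPrime p) := Algebra.EssFiniteType.isNoetherianRing k' _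
      exact isNoetherianRing_of_ringEquiv _ (Algebra.TensorProduct.comm k k' (Localization.AtPrime p)).toRingEquiv
  haveI := isLocalization_atPrime_maximal (Localization.AtPrime p)
  have e1 := (IsLocalization.algEquiv (maximalIdeal (Localization.AtPrime p)).primeCompl
    (Localization.AtPrime (maximalIdeal (Localization.AtPrime p))) (Localization.AtPrime p)).toRingEquiv
  haveI : IsLocalization.AtPrime (Localization.AtPrime q2) (q2.comap (algebraMap (B ⊗[k] k') (Localization.AtPrime p ⊗[k] k'))) :=
    IsLocalization.isLocalization_isLocalization_atPrime_isLocalization M _ q2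
  haveI : IsLocalization.AtPrime (Localization.AtPrime q2) q := by
    have h := this
    simp only [hq2] at h
    exact h
  have e2 := (IsLocalization.algEquiv q.primeCompl (Localization.AtPrime q2) (Localization.AtPrime q)).toRingEquiv
  refine (cm_congr e1).symm.trans (Iff.trans ?_ (cm_congr (A := Localization.AtPrime q2) (B := Localization.AtPrime q) e2))
  refine cm_iff_baseChange k k' (Localization.AtPrime p) q2 _ hmax (gorenstein_residue_tensor k k' _ ?_)
  refine hk.imp id fun h => ?_
  haveI := h
  haveI : Algebra.EssFiniteType k (Localization.AtPrime p) := Algebra.EssFiniteType.comp k B _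
  exact Algebra.EssFiniteType.comp k (Localization.AtPrime p) _

theorem cm_comap_equiv {R P : Type u} [CommRing R] [CommRing P] (e : R ≃+* P) (J : Ideal P) [J.IsPrime]
    (I : Ideal R) [I.IsPrime] (h : I = J.comap e.toRingHom) :
    LocCoh.IsCohenMacaulayLocalRing (Localization.AtPrime I) ↔ LocCoh.IsCohenMacaulayLocalRing (Localization.AtPrime J) :=
  cm_congr (Localization.localRingEquiv I J e h)

section Pushout

variable {A A' B B' : Type u} [CommRing A] [CommRing A'] [CommRing B] [CommRing B']
  [Algebra A A'] [Algebra A B] [Algebra A' B'] [Algebra B B'] [Algebra A B']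
  [IsScalarTower A A' B'] [IsScalarTower A B B'] [Algebra.IsPushout A A' B B']

theorem cmFibre_baseChange_iff (p : Ideal A) [p.IsPrime] (p' : Ideal A') [p'.IsPrime] [p'.LiesOver p]
    (q : Ideal B) [q.IsPrime] [q.LiesOver p] (q' : Ideal B') [q'.IsPrime] [q'.LiesOver p'] [q'.LiesOver q]
    [IsNoetherianRing (Localization.AtPrime q ⧸ p.map (algebraMap A (Localization.AtPrime q)))]
    (hA : Algebra.EssFiniteType A A' ∨ Algebra.EssFiniteType A B) :
    CMFibre (Localization.localRingHom p' q' (algebraMap A' B') (q'.over_def p')) ↔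
      CMFibre (Localization.localRingHom p q (algebraMap A B) (q.over_def p)) := by
  letI := Localization.AtPrime.algebraOfLiesOver p p'
  let Q : PrimeSpectrum (p.Fiber B) := PrimeSpectrum.preimageEquivFiber A B ⟨p, inferInstance⟩ ⟨⟨q, inferInstance⟩, PrimeSpectrum.ext (q.over_def p).symm⟩
  have hQ : Q.asIdeal.comap (Algebra.TensorProduct.includeRight : B →ₐ[A] p.Fiber B).toRingHom = q :=
    congrArg (fun z => z.1.asIdeal)
      ((PrimeSpectrum.preimageEquivFiber A B ⟨p, inferInstance⟩).symm_apply_apply ⟨⟨q, inferInstance⟩, PrimeSpectrum.ext (q.over_def p).symm⟩)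
  let Q' : PrimeSpectrum (p'.Fiber B') := PrimeSpectrum.preimageEquivFiber A' B' ⟨p', inferInstance⟩ ⟨⟨q', inferInstance⟩, PrimeSpectrum.ext (q'.over_def p').symm⟩
  have hQ' : Q'.asIdeal.comap (Algebra.TensorProduct.includeRight : B' →ₐ[A'] p'.Fiber B').toRingHom = q' :=
    congrArg (fun z => z.1.asIdeal)
      ((PrimeSpectrum.preimageEquivFiber A' B' ⟨p', inferInstance⟩).symm_apply_apply ⟨⟨q', inferInstance⟩, PrimeSpectrum.ext (q'.over_def p').symm⟩)
  rw [localRingHom_cmFibre_iff p q Q hQ, localRingHom_cmFibre_iff p' q' Q' hQ']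
  obtain ⟨eB⟩ := exists_quotLocal_equiv p q Q.asIdeal hQ
  haveI : IsNoetherianRing (Localization.AtPrime Q.asIdeal) := isNoetherianRing_of_ringEquiv _ eB
  let e : p.Fiber B ⊗[p.ResidueField] p'.ResidueField ≃+* p'.Fiber B' :=
    ((Algebra.TensorProduct.comm p.ResidueField (p.Fiber B) p'.ResidueField).toRingEquiv.trans
      (Algebra.TensorProduct.cancelBaseChange A p.ResidueField p'.ResidueField p'.ResidueField B :
        p'.ResidueField ⊗[p.ResidueField] (p.Fiber B) ≃ₐ[p'.ResidueField] p'.ResidueField ⊗[A] B).toRingEquiv).trans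
      ((Algebra.TensorProduct.cancelBaseChange A A' A' p'.ResidueField B).toRingEquiv.symm.trans
        (Algebra.TensorProduct.congr (AlgEquiv.refl (R := A') (A₁ := p'.ResidueField)) (Algebra.IsPushout.equiv A A' B B')).toRingEquiv)
  have he : ∀ b : B, e (algebraMap (p.Fiber B) (p.Fiber B ⊗[p.ResidueField] p'.ResidueField)
      ((Algebra.TensorProduct.includeRight : B →ₐ[A] p.Fiber B) b)) =
      (Algebra.TensorProduct.includeRight : B' →ₐ[A'] p'.Fiber B') (algebraMap B B' b) := fun b => by
    show Algebra.TensorProduct.congr (AlgEquiv.refl (R := A') (A₁ := p'.ResidueField)) (Algebra.IsPushout.equiv A A' B B')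
      ((Algebra.TensorProduct.cancelBaseChange A A' A' p'.ResidueField B).symm
        (Algebra.TensorProduct.cancelBaseChange A p.ResidueField p'.ResidueField p'.ResidueField B
          (Algebra.TensorProduct.comm p.ResidueField (p.Fiber B) p'.ResidueField ((1 ⊗ₜ[A] b) ⊗ₜ[p.ResidueField] 1)))) = _
    simp [Algebra.IsPushout.equiv_tmul]
  let q2 := Q'.asIdeal.comap e.toRingHom
  have hq2 : q2.comap (algebraMap (p.Fiber B) (p.Fiber B ⊗[p.ResidueField] p'.ResidueField)) = Q.asIdeal := by
    let P : PrimeSpectrum (p.Fiber B) := ⟨q2.comap (algebraMap _ _), inferInstance⟩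
    suffices P = Q from congrArg PrimeSpectrum.asIdeal this
    refine (PrimeSpectrum.preimageEquivFiber A B ⟨p, inferInstance⟩).symm.injective ?_
    rw [show (PrimeSpectrum.preimageEquivFiber A B ⟨p, inferInstance⟩).symm Q = _ from Equiv.symm_apply_apply _ _]
    refine Subtype.ext (PrimeSpectrum.ext ?_)
    ext b
    show e (algebraMap _ _ ((Algebra.TensorProduct.includeRight : B →ₐ[A] p.Fiber B) b)) ∈ Q'.asIdeal ↔ b ∈ q
    rw [he]
    exact (SetLike.ext_iff.1 hQ' (algebraMap B B' b)).trans (SetLike.ext_iff.1 (q'.over_def q).symm b)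
  have hk : Algebra.EssFiniteType p.ResidueField p'.ResidueField ∨ Algebra.EssFiniteType p.ResidueField (p.Fiber B) := by
    refine hA.imp (fun h => ?_) fun h => Algebra.EssFiniteType.baseChange (T := p.ResidueField) (h := h)
    haveI := h
    haveI : Algebra.EssFiniteType A p'.ResidueField := Algebra.EssFiniteType.comp A A' _
    exact Algebra.EssFiniteType.of_comp A p.ResidueField p'.ResidueField
  haveI : q2.IsPrime := Ideal.IsPrime.comap e.toRingHom
  exact ((cm_iff_baseChange_local p.ResidueField p'.ResidueField (p.Fiber B) q2 Q.asIdeal hq2 hk).trans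
    (cm_comap_equiv (R := p.Fiber B ⊗[p.ResidueField] p'.ResidueField) (P := p'.Fiber B') e Q'.asIdeal q2 rfl)).symm

end Pushout

end Groth.Agent.CMFlatLib
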