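import Groth.Agent.CMFlatLib.Constructible
import Mathlib.AlgebraicGeometry.Morphisms.FinitePresentation

/-!
The Cohen–Macaulay locus of fibres is locally constructible.
-/

set_option autoImplicit false

universe u

open CategoryTheory AlgebraicGeometry Topology

namespace Groth.Agent.CMFlatLib

open DimFormulaLib

theorem isLocallyConstructible_compl {X : Type*} [TopologicalSpace X] {s : Set X} (hs : IsLocallyConstructible s) :
    IsLocallyConstructible sᶜ := fun x =>
  have ⟨V, hV, hVo, h⟩ := hs x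
  ⟨V, hV, hVo, h.compl⟩

theorem cm_fibre_asFiber_iff {X Y : Scheme.{u}} (f : X ⟶ Y) (x : X) :
    LocCoh.IsCohenMacaulayLocalRing ((f.fiber (f x)).presheaf.stalk (f.asFiber x)) ↔ CMFibre (f.stalkMap x).hom := by
  have key : ∀ x' : X, x' = x → (CMFibre (f.stalkMap x').hom ↔ CMFibre (f.stalkMap x).hom) := by
    rintro x' rfl; rfl
  rw [cm_fibre_stalk_iff, key _ (f.fiberι_asFiber x)]

theorem isLocallyConstructible_cmFibre {X Y : Scheme.{u}} (f : X ⟶ Y) [LocallyOfFinitePresentation f] :
    IsLocallyConstructible {x : X | CMFibre (f.stalkMap x).hom} := by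
  intro x
  obtain ⟨c⟩ := exists_chart f x
  haveI := chart_finitePresentation c
  have ho := c.j.isOpenEmbedding
  refine ⟨Set.range c.j, ho.isOpen_range.mem_nhds ⟨c.q, c.hq⟩, ho.isOpen_range, ?_⟩
  let e := ho.toIsEmbedding.toHomeomorph
  have hset : e ⁻¹' ((Subtype.val : ↥(Set.range c.j) → X) ⁻¹' {x : X | CMFibre (f.stalkMap x).hom}) = CMSet c.A c.B := by
    ext z
    exact chart_stalkMap_iff respectsIso_cmFibre (c.move z)
  have h := (isConstructible_cmSet c.A c.B).preimage_of_isOpenEmbedding e.symm.isOpenEmbedding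
  rw [← hset, ← Set.preimage_comp] at h
  rwa [e.self_comp_symm, Set.preimage_id] at h

theorem isLocallyConstructible_cmFibres {X Y : Scheme.{u}} (f : X ⟶ Y) [LocallyOfFinitePresentation f]
    [QuasiCompact f] : IsLocallyConstructible {s : Y |
      ∀ z : ↥(f.fiber s), LocCoh.IsCohenMacaulayLocalRing ((f.fiber s).presheaf.stalk z)} := by
  have hset : {s : Y | ∀ z : ↥(f.fiber s), LocCoh.IsCohenMacaulayLocalRing ((f.fiber s).presheaf.stalk z)} =
      (f '' {x : X | CMFibre (f.stalkMap x).hom}ᶜ)ᶜ := by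
    ext s
    refine ⟨fun h => ?_, fun h z => (cm_fibre_stalk_iff f s z).2 ?_⟩
    · rintro ⟨x, hx, rfl⟩
      exact hx ((cm_fibre_asFiber_iff f x).1 (h (f.asFiber x)))
    · by_contra hne
      refine h ⟨f.fiberι s z, hne, ?_⟩
      have : f.fiberι s z ∈ f ⁻¹' {s} := by rw [← f.range_fiberι s]; exact ⟨z, rfl⟩
      exact this
  rw [hset]
  exact isLocallyConstructible_compl (f.isLocallyConstructible_image
    (isLocallyConstructible_compl (isLocallyConstructible_cmFibre f)))

end Groth.Agent.CMFlatLib
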