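import Groth.Agent.CMFlatLib.BaseChange
import Groth.Agent.CMFlatLib.Locus
import Groth.Prelude.Def_Grpd

/-!
The Cohen–Macaulay loci of the source and target maps of a groupoid scheme.
-/

set_option autoImplicit false

universe u

open CategoryTheory CategoryTheory.Limits AlgebraicGeometry

namespace Groth.Agent.CMFlatLib

theorem grpd_isCMAt_iff {X Y : Scheme.{u}} (f : X ⟶ Y) (x : X) : Grpd.IsCMAt f x ↔ MoreMor.IsCMAt f x := by
  rw [isCMAt_iff, CMFibre, span_nonunits]
  rfl

theorem isCMAt_baseChange_iff {X Y X' Y' : Scheme.{u}} (f : X ⟶ Y) [Flat f] [LocallyOfFinitePresentation f]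
    {f' : X' ⟶ Y'} {g' : X' ⟶ X} {g : Y' ⟶ Y} (hc : IsPullback g' f' f g) (x' : X') :
    MoreMor.IsCMAt f' x' ↔ MoreMor.IsCMAt f (g' x') := by
  haveI : LocallyOfFiniteType (f.fiberToSpecResidueField (f (g' x'))) :=
    MorphismProperty.pullback_snd _ _ inferInstance
  have hN : NoethFibre (f.stalkMap (g' x')).hom := noethFibre_of_isLocallyNoetherian _
    (LocallyOfFiniteType.isLocallyNoetherian (f.fiberToSpecResidueField (f (g' x'))))
  rw [isCMAt_iff, isCMAt_iff, cmFibre_isPullback_iff hc x' hN (Or.inr inferInstance)]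
  exact and_congr_left fun _ => ⟨fun _ => Flat.stalkMap f _, fun h => flat_stalkMap_baseChange hc x' h⟩

theorem isCMAt_comp_left_iff {X Y Z : Scheme.{u}} (g : X ⟶ Y) [IsOpenImmersion g] (f : Y ⟶ Z) (x : X) :
    MoreMor.IsCMAt (g ≫ f) x ↔ MoreMor.IsCMAt f (g x) := by
  rw [isCMAt_iff, isCMAt_iff, stalkMap_comp_left_iff (P := fun {R S} _ _ g => RingHom.Flat g) RingHom.Flat.respectsIso g f x,
    stalkMap_comp_left_iff respectsIso_cmFibre g f x]

section

variable {S : Scheme.{u}} (G : Grpd.GroupoidScheme S)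

theorem i_comp_i : G.i ≫ G.i = 𝟙 G.R := by
  have key : ∀ {T : Scheme.{u}} (α : T ⟶ G.R), α ≫ G.i ≫ G.i = α := by
    intro T α
    have h1 : (α ≫ G.i ≫ G.i) ≫ G.s = (α ≫ G.i) ≫ G.t := by simp only [Category.assoc, G.i_s]
    have h2 : (α ≫ G.i) ≫ G.s = α ≫ G.t := by rw [Category.assoc, G.i_s]
    have h := G.assoc (α ≫ G.i ≫ G.i) (α ≫ G.i) α h1 h2
    have e1 : pullback.lift (α ≫ G.i ≫ G.i) (α ≫ G.i) h1 ≫ G.c = α ≫ G.t ≫ G.e := by
      have := G.i_comp (α ≫ G.i)
      simp only [Category.assoc] at this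
      rw [this, ← Category.assoc G.i, G.i_s]
    have e2 : pullback.lift (α ≫ G.i) α h2 ≫ G.c = (α ≫ G.i ≫ G.i) ≫ G.s ≫ G.e := by
      rw [G.i_comp α]
      simp only [Category.assoc]
      rw [← Category.assoc G.i G.s, G.i_s, ← Category.assoc G.i G.t, G.i_t]
    have hL : pullback.lift (pullback.lift (α ≫ G.i ≫ G.i) (α ≫ G.i) h1 ≫ G.c) α
        ((G.comp_s _ _ h1).trans h2) ≫ G.c = α := by
      simp only [e1]
      exact G.e_comp α
    have hR : pullback.lift (α ≫ G.i ≫ G.i) (pullback.lift (α ≫ G.i) α h2 ≫ G.c)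
        (h1.trans (G.comp_t _ _ h2).symm) ≫ G.c = α ≫ G.i ≫ G.i := by
      simp only [e2]
      exact G.comp_e _
    exact (hR.symm.trans h.symm).trans hL
  simpa using key (𝟙 G.R)

theorem isIso_i : IsIso G.i := ⟨G.i, i_comp_i G, i_comp_i G⟩

theorem isPullback_comp : IsPullback G.c (pullback.snd G.s G.t) G.s G.s := by
  have hw : G.c ≫ G.s = pullback.snd G.s G.t ≫ G.s := by
    have := G.comp_s (pullback.fst G.s G.t) (pullback.snd G.s G.t) pullback.condition
    have hid : pullback.lift (pullback.fst G.s G.t) (pullback.snd G.s G.t) pullback.condition = 𝟙 (pullback G.s G.t) := by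
      ext <;> simp
    rwa [hid, Category.id_comp] at this
  -- the inverse: `(γ, β) ↦ (γ ∘ β⁻¹, β)`
  refine IsPullback.of_iso (IsPullback.of_hasPullback G.s G.s) ?_ (Iso.refl _) (Iso.refl _) (Iso.refl _) ?_ ?_ (by simp) (by simp)
  · refine
      { hom := pullback.lift
          (pullback.lift (pullback.fst G.s G.s) (pullback.snd G.s G.s ≫ G.i)
            (by rw [Category.assoc, G.i_t]; exact pullback.condition) ≫ G.c)
          (pullback.snd G.s G.s) ?_
        inv := pullback.lift G.c (pullback.snd G.s G.t) hw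
        hom_inv_id := ?_
        inv_hom_id := ?_ }
    · rw [G.comp_s, Category.assoc, G.i_s]
    · apply pullback.hom_ext
      · rw [Category.assoc, pullback.lift_fst, Category.id_comp]
        have hI : pullback.lift (pullback.snd G.s G.s ≫ G.i) (pullback.snd G.s G.s)
            (by rw [Category.assoc, G.i_s]) ≫ G.c = pullback.fst G.s G.s ≫ G.s ≫ G.e := by
          rw [G.i_comp, ← pullback.condition_assoc]
        have h := G.assoc (pullback.fst G.s G.s) (pullback.snd G.s G.s ≫ G.i) (pullback.snd G.s G.s)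
          (by rw [Category.assoc, G.i_t]; exact pullback.condition) (by rw [Category.assoc, G.i_s])
        refine h.trans ?_
        simp only [hI]
        exact G.comp_e _
      · rw [Category.assoc, pullback.lift_snd, pullback.lift_snd, Category.id_comp]
    · apply pullback.hom_ext
      · rw [Category.assoc, pullback.lift_fst, Category.id_comp, ← Category.assoc]
        have hI : pullback.lift (pullback.snd G.s G.t) (pullback.snd G.s G.t ≫ G.i)
            (by rw [Category.assoc, G.i_t]) ≫ G.c = pullback.fst G.s G.t ≫ G.s ≫ G.e := by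
          rw [G.comp_i, ← pullback.condition_assoc]
        have h := G.assoc (pullback.fst G.s G.t) (pullback.snd G.s G.t) (pullback.snd G.s G.t ≫ G.i)
          pullback.condition (by rw [Category.assoc, G.i_t])
        have hid : pullback.lift (pullback.fst G.s G.t) (pullback.snd G.s G.t) pullback.condition = 𝟙 (pullback G.s G.t) := by
          ext <;> simp
        simp only [hI, hid, Category.id_comp] at h
        have e : pullback.lift G.c (pullback.snd G.s G.t) hw ≫ pullback.lift (pullback.fst G.s G.s) (pullback.snd G.s G.s ≫ G.i)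
            (by rw [Category.assoc, G.i_t]; exact pullback.condition) =
            pullback.lift G.c (pullback.snd G.s G.t ≫ G.i) (by rw [Category.assoc, G.i_t]; exact hw) := by
          apply pullback.hom_ext
          · rw [Category.assoc, pullback.lift_fst, pullback.lift_fst, pullback.lift_fst]
          · rw [Category.assoc, pullback.lift_snd, pullback.lift_snd, pullback.lift_snd_assoc]
        rw [e, h]
        exact G.comp_e _
      · rw [Category.assoc, pullback.lift_snd, pullback.lift_snd, Category.id_comp]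
  · have hI : pullback.lift (pullback.snd G.s G.s ≫ G.i) (pullback.snd G.s G.s)
        (by rw [Category.assoc, G.i_s]) ≫ G.c = pullback.fst G.s G.s ≫ G.s ≫ G.e := by
      rw [G.i_comp, ← pullback.condition_assoc]
    have h := G.assoc (pullback.fst G.s G.s) (pullback.snd G.s G.s ≫ G.i) (pullback.snd G.s G.s)
      (by rw [Category.assoc, G.i_t]; exact pullback.condition) (by rw [Category.assoc, G.i_s])
    simp only [hI] at h
    simp only [Iso.refl_hom, Category.comp_id]
    exact (h.trans (G.comp_e _)).symm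
  · exact ((pullback.lift_snd _ _ _).trans (Category.comp_id _).symm).symm

theorem isCMAt_s_iff [Flat G.s] [LocallyOfFinitePresentation G.s] (r : G.R) :
    MoreMor.IsCMAt G.s r ↔ MoreMor.IsCMAt G.s (G.e (G.t r)) := by
  let σ : G.R ⟶ pullback G.s G.t := pullback.lift (G.t ≫ G.e) (𝟙 G.R) (by simp [G.e_s])
  have hc : σ ≫ G.c = 𝟙 G.R := by
    have := G.e_comp (𝟙 G.R)
    simpa [σ] using this
  have h1 := isCMAt_baseChange_iff G.s (IsPullback.of_hasPullback G.s G.t) (σ r)
  have h2 := isCMAt_baseChange_iff G.s (isPullback_comp G) (σ r)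
  rw [← Scheme.Hom.comp_apply, pullback.lift_fst, Scheme.Hom.comp_apply] at h1
  rw [← Scheme.Hom.comp_apply, hc] at h2
  exact h2.symm.trans h1

theorem isCMAt_t_iff (r : G.R) : MoreMor.IsCMAt G.t r ↔ MoreMor.IsCMAt G.s (G.i r) := by
  haveI := isIso_i G
  have key : ∀ k : G.R ⟶ G.U, k = G.t → (MoreMor.IsCMAt G.t r ↔ MoreMor.IsCMAt k r) := by rintro k rfl; rfl
  exact (key _ G.i_s).trans (isCMAt_comp_left_iff G.i G.s r)

theorem exists_isCMAt_over {X Y : Scheme.{u}} (f : X ⟶ Y) [Flat f] [LocallyOfFinitePresentation f] (x : X) :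
    ∃ z : X, f z = f x ∧ MoreMor.IsCMAt f z := by
  haveI : Nonempty ↥(f.fiber (f x)) := ⟨f.asFiber x⟩
  obtain ⟨w, hw⟩ := (dense_isCMAt f (f x)).nonempty
  refine ⟨f.fiberι (f x) w, ?_, hw⟩
  have : f.fiberι (f x) w ∈ f ⁻¹' {f x} := by rw [← f.range_fiberι (f x)]; exact ⟨w, rfl⟩
  exact this

end

end Groth.Agent.CMFlatLib
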