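import Mathlib
import Groth.Prelude.Def_CAlg
import Groth.Agent.RegLocal.Basic
import Groth.Agent.LocCohLib.CMSop
import Groth.Agent.MiracleFlatLib.Basic
import Groth.Agent.CMGraded.FlatCM
import Groth.Agent.RatliffLib.Formal

/-!
Flatness over a regular local ring with artinian closed fibre and Cohen–Macaulayness.
-/

set_option autoImplicit false

universe u

open IsLocalRing RingTheory.Sequence

namespace Groth.Agent.CMFlatLib

variable (R S : Type u) [CommRing R] [CommRing S] [IsLocalRing R] [IsLocalRing S]
  [IsNoetherianRing R] [IsNoetherianRing S] [Algebra R S]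
  (h : ((maximalIdeal R).map (algebraMap R S)).radical = maximalIdeal S)
include h

omit [IsNoetherianRing R] [IsNoetherianRing S] in
theorem isLocalHom_of_radical : IsLocalHom (algebraMap R S) :=
  ((local_hom_TFAE (algebraMap R S)).out 0 2 rfl rfl).mpr (Ideal.le_radical.trans h.le)

theorem ringKrullDim_eq_of_flat [Module.Flat R S] : ringKrullDim S = ringKrullDim R := by
  have := isLocalHom_of_radical R S h
  have : (maximalIdeal S).LiesOver (maximalIdeal R) := ⟨(((local_hom_TFAE (algebraMap R S)).out 0 4
    rfl rfl).mp inferInstance).symm⟩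
  rw [← maximalIdeal_height_eq_ringKrullDim, ← maximalIdeal_height_eq_ringKrullDim,
    Ideal.height_eq_height_add_of_liesOver_of_hasGoingDown (maximalIdeal R) (maximalIdeal S)]
  have h0 : ((maximalIdeal S).map (Ideal.Quotient.mk ((maximalIdeal R).map (algebraMap R S)))).height = 0 := by
    have hle : (maximalIdeal R).map (algebraMap R S) ≤ maximalIdeal S := Ideal.le_radical.trans h.le
    haveI : ((maximalIdeal S).map (Ideal.Quotient.mk ((maximalIdeal R).map (algebraMap R S)))).IsPrime :=
      Ideal.map_isPrime_of_surjective Ideal.Quotient.mk_surjective (by rwa [Ideal.mk_ker])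
    refine Ideal.height_eq_zero_iff.2 ⟨⟨inferInstance, bot_le⟩, fun P hP hP' => ?_⟩
    haveI := hP.1
    refine Ideal.map_le_iff_le_comap.2 (h ▸ (Ideal.IsPrime.radical_le_iff inferInstance).2 ?_)
    intro x hx
    rw [Ideal.mem_comap, Ideal.Quotient.eq_zero_iff_mem.2 hx]
    exact zero_mem P
  rw [h0, add_zero]

/-- Miracle flatness for a Cohen–Macaulay extension of a regular local ring. -/
theorem flat_of_cm [IsRegularLocalRing R] [LocCoh.IsCohenMacaulayLocalRing S] (hdim : ringKrullDim S = ringKrullDim R) :
    Module.Flat R S := by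
  have := isLocalHom_of_radical R S h
  obtain ⟨d, hd⟩ := RegLocal.exists_nat_ringKrullDim R
  obtain ⟨x, hx⟩ := RegLocal.exists_generators R
  have hsd : (maximalIdeal R).spanFinrank = d := by
    exact_mod_cast (IsRegularLocalRing.spanFinrank_maximalIdeal (R := R)).trans hd
  let y : Fin d → R := x ∘ Fin.cast hsd.symm
  have hy : Ideal.span (Set.range y) = maximalIdeal R := by
    rw [← hx]
    congr 1
    exact (finCongr hsd.symm).surjective.range_comp x
  have hlist : maximalIdeal R = Ideal.ofList (List.ofFn y) := by
    rw [← hy, Ideal.ofList]; congr 1; ext z; simp [List.mem_ofFn]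
  refine MiracleFlatLib.flat_of_isWeaklyRegular d R S (List.ofFn y) (List.length_ofFn) hlist
    (RegLocal.isRegular_of_generators R hd y hy).toIsWeaklyRegular ?_
  have hS := LocCohLib.isWeaklyRegular_of_sop (R := S) (hdim.trans hd) (b := algebraMap R S ∘ y)
    (by rw [Set.range_comp, ← Ideal.map_span, hy, h])
  rw [← isWeaklyRegular_map_algebraMap_iff S S (List.ofFn y), List.map_ofFn]
  exact hS

/-- A flat extension with artinian closed fibre of a regular local ring is Cohen–Macaulay. -/
theorem cm_of_flat [IsRegularLocalRing R] [Module.Flat R S] : LocCoh.IsCohenMacaulayLocalRing S := by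
  have := isLocalHom_of_radical R S h
  have := Module.FaithfullyFlat.of_flat_of_isLocalHom (A := R) (B := S)
  obtain ⟨d, hd⟩ := RegLocal.exists_nat_ringKrullDim R
  obtain ⟨x, hx⟩ := RegLocal.exists_generators R
  have hsd : (maximalIdeal R).spanFinrank = d := by
    exact_mod_cast (IsRegularLocalRing.spanFinrank_maximalIdeal (R := R)).trans hd
  let y : Fin d → R := x ∘ Fin.cast hsd.symm
  have hy : Ideal.span (Set.range y) = maximalIdeal R := by
    rw [← hx]
    congr 1
    exact (finCongr hsd.symm).surjective.range_comp x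
  have hreg := (RegLocal.isRegular_of_generators R hd y hy).toIsWeaklyRegular
  refine CMGraded.isCohenMacaulayLocalRing_of_seq (rs := (List.ofFn y).map (algebraMap R S)) (fun r hr => ?_) ?_ ?_
  · obtain ⟨a, ha, rfl⟩ := List.mem_map.1 hr
    obtain ⟨i, rfl⟩ := List.mem_ofFn.1 ha
    exact h ▸ Ideal.le_radical (Ideal.mem_map_of_mem _ (hy ▸ Ideal.subset_span ⟨i, rfl⟩))
  · exact hreg.of_flat
  · rw [List.length_map, List.length_ofFn, ringKrullDim_eq_of_flat R S h, hd]

end Groth.Agent.CMFlatLib
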