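import Groth.Agent.CMFlatLib.Fibre
import Groth.Agent.FlatLocus.Fibrewise
import Groth.Agent.GorLib.Flat
import Groth.Agent.DimFormulaLib.Irreducible
import Groth.Agent.CMCat.Polynomial

/-!
Quasi-finite maps to affine space, flatness and Cohen–Macaulay fibres.
-/

set_option autoImplicit false

universe u

open IsLocalRing TensorProduct

namespace Groth.Agent.CMFlatLib

/-- Flatness modulo an ideal, through a flat intermediate ring. -/
theorem flat_quot_trans {T R L : Type u} [CommRing T] [CommRing R] [CommRing L] [Algebra T R] [Algebra R L]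
    [Algebra T L] [IsScalarTower T R L] [Module.Flat T R] (J : Ideal T)
    [Module.Flat (R ⧸ J.map (algebraMap T R)) (L ⧸ (J.map (algebraMap T R)).map (algebraMap R L))] :
    Module.Flat (T ⧸ J) (L ⧸ J.map (algebraMap T L)) := by
  haveI := GorLib.flat_quot_map (A := T) (B := R) J
  letI : Algebra (T ⧸ J) (L ⧸ (J.map (algebraMap T R)).map (algebraMap R L)) :=
    ((algebraMap (R ⧸ J.map (algebraMap T R)) (L ⧸ (J.map (algebraMap T R)).map (algebraMap R L))).comp
      (algebraMap (T ⧸ J) (R ⧸ J.map (algebraMap T R)))).toAlgebra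
  haveI : IsScalarTower (T ⧸ J) (R ⧸ J.map (algebraMap T R)) (L ⧸ (J.map (algebraMap T R)).map (algebraMap R L)) :=
    .of_algebraMap_eq' rfl
  haveI := Module.Flat.trans (T ⧸ J) (R ⧸ J.map (algebraMap T R)) (L ⧸ (J.map (algebraMap T R)).map (algebraMap R L))
  have he : J.map (algebraMap T L) = (J.map (algebraMap T R)).map (algebraMap R L) := by
    rw [Ideal.map_map, ← IsScalarTower.algebraMap_eq]
  let e := Ideal.quotEquivOfEq he
  refine Module.Flat.of_linearEquiv (AlgEquiv.ofRingEquiv (f := e) (fun t => ?_)).toLinearEquiv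
  obtain ⟨t, rfl⟩ := Ideal.Quotient.mk_surjective t
  show Ideal.Quotient.mk _ (algebraMap T L t) = Ideal.Quotient.mk _ (algebraMap R L (algebraMap T R t))
  rw [← IsScalarTower.algebraMap_apply]

theorem flat_quot_tensor {T L M : Type u} [CommRing T] [CommRing L] [Algebra T L] [AddCommGroup M] [Module T M]
    (e : L ≃ₗ[T] M) (J : Ideal T) [Module.Flat (T ⧸ J) (L ⧸ J.map (algebraMap T L))] :
    Module.Flat (T ⧸ J) ((T ⧸ J) ⊗[T] M) :=
  Module.Flat.of_linearEquiv
    (((((Algebra.TensorProduct.quotIdealMapEquivTensorQuot L J).toLinearEquiv.restrictScalars T).trans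
      (TensorProduct.comm T L (T ⧸ J))).trans (TensorProduct.congr (LinearEquiv.refl T _) e)).extendScalarsOfSurjective
        Ideal.Quotient.mk_surjective).symm

theorem maximalIdeal_quot {R : Type u} [CommRing R] [IsLocalRing R] {I : Ideal R} (hI : I ≠ ⊤) [IsLocalRing (R ⧸ I)] :
    maximalIdeal (R ⧸ I) = (maximalIdeal R).map (Ideal.Quotient.mk I) := by
  refine (IsLocalRing.eq_maximalIdeal ?_).symm
  haveI : ((maximalIdeal R).map (Ideal.Quotient.mk I)) ≠ ⊤ := fun h => (maximalIdeal.isMaximal R).ne_top (by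
    have := congrArg (Ideal.comap (Ideal.Quotient.mk I)) h
    rwa [Ideal.comap_map_of_surjective' _ Ideal.Quotient.mk_surjective, Ideal.mk_ker,
      sup_eq_left.2 (IsLocalRing.le_maximalIdeal hI), Ideal.comap_top] at this)
  exact Ideal.IsMaximal.map_of_surjective_of_ker_le Ideal.Quotient.mk_surjective
    (by rw [Ideal.mk_ker]; exact IsLocalRing.le_maximalIdeal hI)

theorem flat_quot_iff_cm {R L R₀ S₀ : Type u} [CommRing R] [CommRing L] [IsLocalRing R] [IsLocalRing L]
    [Algebra R L] [CommRing R₀] [CommRing S₀] [IsRegularLocalRing R₀] [IsNoetherianRing S₀] [IsLocalRing S₀]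
    (I : Ideal R) (eR : (R ⧸ I) ≃+* R₀) (eS : (L ⧸ I.map (algebraMap R L)) ≃+* S₀)
    (hrad : ((maximalIdeal R).map (algebraMap R L)).radical = maximalIdeal L) :
    Module.Flat (R ⧸ I) (L ⧸ I.map (algebraMap R L)) ↔
      LocCoh.IsCohenMacaulayLocalRing S₀ ∧ ringKrullDim S₀ = ringKrullDim R₀ := by
  haveI : IsRegularLocalRing (R ⧸ I) := IsRegularLocalRing.of_ringEquiv eR.symm
  haveI : IsNoetherianRing (L ⧸ I.map (algebraMap R L)) := isNoetherianRing_of_ringEquiv _ eS.symm
  haveI : IsLocalRing (L ⧸ I.map (algebraMap R L)) := eS.symm.isLocalRing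
  have hIne : I ≠ ⊤ := Ideal.Quotient.nontrivial_iff.1 inferInstance
  have hJne : I.map (algebraMap R L) ≠ ⊤ := Ideal.Quotient.nontrivial_iff.1 inferInstance
  have hrad' : ((maximalIdeal (R ⧸ I)).map (algebraMap (R ⧸ I) (L ⧸ I.map (algebraMap R L)))).radical =
      maximalIdeal _ := by
    have h := Ideal.map_radical_of_surjective (f := Ideal.Quotient.mk (I.map (algebraMap R L)))
      Ideal.Quotient.mk_surjective (I := (maximalIdeal R).map (algebraMap R L))
      (by rw [Ideal.mk_ker]; exact Ideal.map_mono (IsLocalRing.le_maximalIdeal hIne))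
    rw [hrad] at h
    rw [maximalIdeal_quot hIne, maximalIdeal_quot hJne, h, Ideal.map_map, Ideal.map_map]
    rfl
  constructor
  · intro hflat
    refine ⟨?_, by rw [← ringKrullDim_eq_of_ringEquiv eS, ← ringKrullDim_eq_of_ringEquiv eR,
      ringKrullDim_eq_of_flat _ _ hrad']⟩
    haveI := cm_of_flat _ _ hrad'
    exact CMCat.isCohenMacaulayLocalRing_of_ringEquiv eS
  · rintro ⟨hcm, hdim⟩
    haveI := CMCat.isCohenMacaulayLocalRing_of_ringEquiv eS.symm
    exact flat_of_cm _ _ hrad' (by rw [ringKrullDim_eq_of_ringEquiv eS, ringKrullDim_eq_of_ringEquiv eR, hdim])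

variable {A B : Type u} [CommRing A] [CommRing B] [Algebra A B]

theorem dim_polynomial_fibre (n : ℕ) (p : Ideal A) [p.IsPrime] (P : Ideal (MvPolynomial (Fin n) A)) [P.IsPrime]
    [P.LiesOver p] (Q : PrimeSpectrum (p.Fiber (MvPolynomial (Fin n) A)))
    (hQ : Q.asIdeal.comap (Algebra.TensorProduct.includeRight :
      MvPolynomial (Fin n) A →ₐ[A] p.Fiber (MvPolynomial (Fin n) A)).toRingHom = P)
    (t : ℕ) (ht : Algebra.trdeg (A ⧸ p) (MvPolynomial (Fin n) A ⧸ P) = t) :
    IsRegularLocalRing (Localization.AtPrime Q.asIdeal) ∧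
      ∃ a : ℕ, ringKrullDim (Localization.AtPrime Q.asIdeal) = a ∧ a + t = n := by
  let F := p.Fiber (MvPolynomial (Fin n) A)
  let e : F ≃ₐ[p.ResidueField] MvPolynomial (Fin n) p.ResidueField := MvPolynomial.algebraTensorAlgEquiv A _
  haveI : IsDomain F := e.toRingEquiv.toMulEquiv.isDomain _
  haveI : IsNoetherianRing F := Algebra.FiniteType.isNoetherianRing p.ResidueField F
  refine ⟨?_, ?_⟩
  · let Q' : Ideal (MvPolynomial (Fin n) p.ResidueField) := Q.asIdeal.comap e.symm.toRingEquiv.toRingHom
    haveI : Q'.IsPrime := Ideal.IsPrime.comap _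
    refine IsRegularLocalRing.of_ringEquiv (R := Localization.AtPrime Q')
      (IsLocalization.ringEquivOfRingEquiv (M := Q'.primeCompl) (T := Q.asIdeal.primeCompl) _ _
        e.symm.toRingEquiv ?_)
    ext x
    refine ⟨fun ⟨y, hy, hyx⟩ => hyx ▸ hy, fun hx => ⟨e x, ?_, e.symm_apply_apply x⟩⟩
    show e.symm (e x) ∉ Q.asIdeal
    rwa [e.symm_apply_apply]
  · have htF : Algebra.trdeg p.ResidueField (F ⧸ Q.asIdeal) = t :=
      (DimFormulaLib.trdeg_fibre p P Q.asIdeal hQ).trans ht
    have hn : Algebra.trdeg p.ResidueField (F ⧸ (⟨⊥, Ideal.isPrime_bot⟩ : PrimeSpectrum F).asIdeal) = n := by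
      rw [((AlgEquiv.quotientBot p.ResidueField F).trans e).trdeg_eq, MvPolynomial.trdeg_of_isDomain]
      simp
    obtain ⟨a, ha, hat⟩ := DimFormulaLib.trdeg_eq_relHeight_add p.ResidueField F
      (show (⟨⊥, Ideal.isPrime_bot⟩ : PrimeSpectrum F) ≤ Q from bot_le) n t hn htF
    refine ⟨a, ?_, hat.symm⟩
    rw [DimFormulaLib.Chart.relHeight_eq_of_min (fun P => (bot_le : (⊥ : Ideal F) ≤ P.asIdeal))] at ha
    rw [IsLocalization.AtPrime.ringKrullDim_eq_height Q.asIdeal (Localization.AtPrime Q.asIdeal), ha]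
    rfl

variable {n : ℕ} [Algebra (MvPolynomial (Fin n) A) B] [IsScalarTower A (MvPolynomial (Fin n) A) B]
  [Algebra.FinitePresentation A B]

/-- For a map to affine space quasi-finite at a point: flatness means Cohen–Macaulay fibre of that dimension. -/
theorem flat_poly_iff (p : Ideal A) [p.IsPrime] (q : Ideal B) [q.IsPrime] [q.LiesOver p]
    (Q : PrimeSpectrum (p.Fiber B))
    (hQ : Q.asIdeal.comap (Algebra.TensorProduct.includeRight : B →ₐ[A] p.Fiber B).toRingHom = q)
    [Algebra.QuasiFiniteAt (MvPolynomial (Fin n) A) q] [Module.Flat A (Localization.AtPrime q)] :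
    Module.Flat (MvPolynomial (Fin n) A) (Localization.AtPrime q) ↔
      LocCoh.IsCohenMacaulayLocalRing (Localization.AtPrime Q.asIdeal) ∧
        FlatMor.localDim (PrimeSpectrum (p.Fiber B)) Q = n := by
  let T := MvPolynomial (Fin n) A
  let P : Ideal T := q.under T
  haveI : q.LiesOver P := ⟨rfl⟩
  haveI : P.LiesOver p := ⟨by rw [q.over_def p]; exact (Ideal.under_under q).symm⟩
  letI := Localization.AtPrime.algebraOfLiesOver P q
  haveI : IsScalarTower A (Localization.AtPrime P) (Localization.AtPrime q) := IsScalarTower.of_algebraMap_eq fun a => by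
    rw [IsScalarTower.algebraMap_apply A T (Localization.AtPrime P), ← IsScalarTower.algebraMap_apply T (Localization.AtPrime P),
      ← IsScalarTower.algebraMap_apply]
  let J : Ideal T := p.map (algebraMap A T)
  let I : Ideal (Localization.AtPrime P) := J.map (algebraMap T _)
  have hI : I = p.map (algebraMap A (Localization.AtPrime P)) := by
    rw [IsScalarTower.algebraMap_eq A T (Localization.AtPrime P), ← Ideal.map_map]
  have hIq : I.map (algebraMap _ (Localization.AtPrime q)) = p.map (algebraMap A (Localization.AtPrime q)) := by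
    rw [hI, Ideal.map_map, ← IsScalarTower.algebraMap_eq]
  let QT : PrimeSpectrum (p.Fiber T) :=
    PrimeSpectrum.preimageEquivFiber A T ⟨p, inferInstance⟩ ⟨⟨P, inferInstance⟩, PrimeSpectrum.ext (P.over_def p).symm⟩
  have hQT : QT.asIdeal.comap (Algebra.TensorProduct.includeRight : T →ₐ[A] p.Fiber T).toRingHom = P :=
    congrArg (fun z => z.1.asIdeal) ((PrimeSpectrum.preimageEquivFiber A T ⟨p, inferInstance⟩).symm_apply_apply
      ⟨⟨P, inferInstance⟩, PrimeSpectrum.ext (P.over_def p).symm⟩)
  obtain ⟨t, ht⟩ := DimFormulaLib.exists_nat_trdeg_quotient p.ResidueField (p.Fiber B) Q.asIdeal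
  have htB : Algebra.trdeg (A ⧸ p) (B ⧸ q) = t := (DimFormulaLib.trdeg_fibre p q Q.asIdeal hQ).symm.trans ht
  have htT : Algebra.trdeg (A ⧸ p) (T ⧸ P) = t := (trdeg_eq_of_quasiFiniteAt p P q).symm.trans htB
  obtain ⟨hreg, aT, haT, haTn⟩ := dim_polynomial_fibre n p P QT hQT t htT
  obtain ⟨a, ha, hloc, -⟩ := DimFormulaLib.localDim_eq_height_add p.ResidueField (p.Fiber B) Q t ht
  have haS : ringKrullDim (Localization.AtPrime Q.asIdeal) = a := by
    rw [IsLocalization.AtPrime.ringKrullDim_eq_height Q.asIdeal (Localization.AtPrime Q.asIdeal), ha]; rfl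
  obtain ⟨eT⟩ := exists_quotLocal_equiv p P QT.asIdeal hQT
  obtain ⟨eB⟩ := exists_quotLocal_equiv p q Q.asIdeal hQ
  let eR : (Localization.AtPrime P ⧸ I) ≃+* Localization.AtPrime QT.asIdeal := (Ideal.quotEquivOfEq hI).trans eT
  let eS : (Localization.AtPrime q ⧸ I.map (algebraMap _ (Localization.AtPrime q))) ≃+* Localization.AtPrime Q.asIdeal :=
    (Ideal.quotEquivOfEq hIq).trans eB
  haveI : IsNoetherianRing (p.Fiber B) := Algebra.FiniteType.isNoetherianRing p.ResidueField _
  haveI : IsNoetherianRing (Localization.AtPrime Q.asIdeal) := IsLocalization.isNoetherianRing Q.asIdeal.primeCompl _ inferInstance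
  haveI := hreg
  have hrad : ((maximalIdeal (Localization.AtPrime P)).map
      (algebraMap (Localization.AtPrime P) (Localization.AtPrime q))).radical = maximalIdeal (Localization.AtPrime q) := by
    rw [← radical_map_eq_of_quasiFiniteAt (T := T) q, ← Localization.AtPrime.map_eq_maximalIdeal (I := P), Ideal.map_map,
      ← IsScalarTower.algebraMap_eq]
  have key := flat_quot_iff_cm (R₀ := Localization.AtPrime QT.asIdeal) (S₀ := Localization.AtPrime Q.asIdeal) I eR eS hrad
  rw [haS, haT] at key
  constructor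
  · intro hflat
    haveI : Module.Flat (Localization.AtPrime P) (Localization.AtPrime q) :=
      (Module.flat_iff_of_isLocalization (Localization.AtPrime P) P.primeCompl _).2 hflat
    obtain ⟨hcm, h1⟩ := key.1 (GorLib.flat_quot_map I)
    have h2 : a = aT := by exact_mod_cast h1
    exact ⟨hcm, by rw [hloc]; exact_mod_cast (by omega : a + t = n)⟩
  · rintro ⟨hcm, hn⟩
    have h2 : a + t = n := by exact_mod_cast hloc.symm.trans hn
    haveI := key.2 ⟨hcm, by rw [show a = aT by omega]⟩
    haveI : Module.Flat T (Localization.AtPrime P) := IsLocalization.flat _ P.primeCompl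
    haveI := flat_quot_trans (T := T) (R := Localization.AtPrime P) (L := Localization.AtPrime q) J
    let e : Localization.AtPrime q ≃ₗ[B] LocalizedModule q.primeCompl B :=
      (IsLocalizedModule.iso q.primeCompl (Algebra.linearMap B (Localization.AtPrime q))).symm
    haveI : Module.Flat A (LocalizedModule q.primeCompl B) := Module.Flat.of_linearEquiv (e.restrictScalars A).symm
    haveI : Algebra.FinitePresentation T B := Algebra.FinitePresentation.of_restrict_scalars_finitePresentation A T B
    have hp : J ≤ q.comap (algebraMap T B) :=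
      Ideal.map_le_iff_le_comap.2 (by rw [show q.comap (algebraMap T B) = P from rfl]; exact (P.over_def p).le)
    have := FlatLocus.flat_fibrewise_fp (R := A) (A := T) (B := B) (M := B) p q hp
      (flat_quot_tensor (e.restrictScalars T) J)
    exact Module.Flat.of_linearEquiv (e.restrictScalars T)

end Groth.Agent.CMFlatLib
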