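import Groth.Agent.CMFlatLib.Comp
import Groth.Agent.CMFlatLib.Poly
import Groth.Agent.CMFlatLib.Locus
import Groth.Agent.RegLocLib.LocClosedPoint
import Groth.Agent.FlatLocus.Main
import Groth.Agent.CMCat.Local
import Groth.Agent.LocCohLib.CMSop

/-!
Consequences of the Cohen–Macaulay flatness lemmas.
-/

set_option autoImplicit false

universe u

open CategoryTheory AlgebraicGeometry IsLocalRing TensorProduct

namespace Groth.Agent.CMFlatLib

theorem cm_flat_morphism {X Y : Scheme.{u}} (f : X ⟶ Y) [IsLocallyNoetherian X] [IsLocallyNoetherian Y] (x : X)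
    (hf : (f.stalkMap x).hom.Flat) (hX : LocCoh.IsCohenMacaulayLocalRing ↑(X.presheaf.stalk x)) :
    MoreMor.IsCMAt f x ∧ LocCoh.IsCohenMacaulayLocalRing ↑(Y.presheaf.stalk (f x)) := by
  letI := (f.stalkMap x).hom.toAlgebra
  haveI : IsLocalHom (algebraMap (Y.presheaf.stalk (f x)) (X.presheaf.stalk x)) := f.prop x
  haveI : Module.Flat (Y.presheaf.stalk (f x)) (X.presheaf.stalk x) := hf
  have h := (cm_flat_local_iff (Y.presheaf.stalk (f x)) (X.presheaf.stalk x)).1 hX
  refine ⟨(isCMAt_iff f x).2 ⟨hf, ?_⟩, h.1⟩
  rw [CMFibre, span_nonunits]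
  exact h.2

theorem radical_map_of_finite (A B : Type u) [CommRing A] [CommRing B] [IsLocalRing A] [IsLocalRing B] [Algebra A B]
    [IsLocalHom (algebraMap A B)] [Algebra.IsIntegral A B] :
    ((maximalIdeal A).map (algebraMap A B)).radical = maximalIdeal B := by
  rw [Ideal.radical_eq_sInf]
  refine le_antisymm (sInf_le ⟨((local_hom_TFAE (algebraMap A B)).out 0 2 rfl rfl).mp inferInstance, inferInstance⟩) (le_sInf ?_)
  rintro J ⟨hJ, hJp⟩
  have h1 : (J.comap (algebraMap A B)) = maximalIdeal A :=
    ((maximalIdeal.isMaximal A).eq_of_le (Ideal.IsPrime.ne_top inferInstance) (Ideal.map_le_iff_le_comap.1 hJ)).symm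
  haveI : (J.comap (algebraMap A B)).IsMaximal := h1 ▸ maximalIdeal.isMaximal A
  exact (IsLocalRing.eq_maximalIdeal (Ideal.isMaximal_of_isIntegral_of_isMaximal_comap (R := A) J inferInstance)).ge

theorem cm_localization {A : Type u} [CommRing A] (q p : Ideal A) [q.IsPrime] [p.IsPrime] (hpq : p ≤ q)
    [LocCoh.IsCohenMacaulayLocalRing (Localization.AtPrime q)] :
    LocCoh.IsCohenMacaulayLocalRing (Localization.AtPrime p) := by
  haveI := CMCat.isCohenMacaulayRing_of_local (R := Localization.AtPrime q)
  haveI hP : (p.map (algebraMap A (Localization.AtPrime q))).IsPrime :=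
    IsLocalization.isPrime_of_isPrime_disjoint q.primeCompl _ p inferInstance
      (Set.disjoint_left.2 fun a ha hap => ha (hpq hap))
  have hc : (p.map (algebraMap A (Localization.AtPrime q))).comap (algebraMap A (Localization.AtPrime q)) = p :=
    IsLocalization.comap_map_of_isPrime_disjoint q.primeCompl _ inferInstance
      (Set.disjoint_left.2 fun a ha hap => ha (hpq hap))
  haveI := IsLocalization.isLocalization_isLocalization_atPrime_isLocalization q.primeCompl
    (Localization.AtPrime (p.map (algebraMap A (Localization.AtPrime q)))) (p.map (algebraMap A (Localization.AtPrime q)))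
  simp only [hc] at this
  haveI := LocCoh.IsCohenMacaulayRing.isCohenMacaulayLocalRing_localization (p.map (algebraMap A (Localization.AtPrime q)))
  exact CMCat.isCohenMacaulayLocalRing_of_ringEquiv
    (IsLocalization.algEquiv p.primeCompl (Localization.AtPrime (p.map (algebraMap A (Localization.AtPrime q)))) (Localization.AtPrime p)).toRingEquiv

/-- Cohen–Macaulayness of local rings passes to generizations. -/
theorem cm_stalk_of_specializes {X : Scheme.{u}} {x y : X} (h : x ⤳ y)
    (hy : LocCoh.IsCohenMacaulayLocalRing (X.presheaf.stalk y)) :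
    LocCoh.IsCohenMacaulayLocalRing (X.presheaf.stalk x) := by
  obtain ⟨U, hU, hyU, -⟩ := exists_isAffineOpen_mem_and_subset (X := X) (U := ⊤) (x := y) trivial
  have hxU : x ∈ U := h.mem_open U.isOpen hyU
  have hle : (hU.primeIdealOf ⟨x, hxU⟩).asIdeal ≤ (hU.primeIdealOf ⟨y, hyU⟩).asIdeal := by
    refine (PrimeSpectrum.le_iff_specializes _ _).2 (hU.fromSpec.isOpenEmbedding.isInducing.specializes_iff.1 ?_)
    rw [hU.fromSpec_primeIdealOf, hU.fromSpec_primeIdealOf]
    exact h
  have e : ∀ (z : X) (hz : z ∈ U), LocCoh.IsCohenMacaulayLocalRing (X.presheaf.stalk z) ↔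
      LocCoh.IsCohenMacaulayLocalRing (Localization.AtPrime (hU.primeIdealOf ⟨z, hz⟩).asIdeal) := fun z hz => by
    letI : Algebra Γ(X, U) (X.presheaf.stalk z) := TopCat.Presheaf.algebra_section_stalk X.presheaf ⟨z, hz⟩
    haveI : IsLocalization.AtPrime (X.presheaf.stalk z) (hU.primeIdealOf ⟨z, hz⟩).asIdeal := hU.isLocalization_stalk ⟨z, hz⟩
    exact cm_congr (IsLocalization.algEquiv (hU.primeIdealOf ⟨z, hz⟩).asIdeal.primeCompl _ _).toRingEquiv
  haveI := (e y hyU).1 hy
  exact (e x hxU).2 (cm_localization _ _ hle)

theorem spec_isCMAt_field_iff {k S : Type u} [Field k] [CommRing S] [Algebra k S] (q : PrimeSpectrum S) :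
    MoreMor.IsCMAt (Spec.map (CommRingCat.ofHom (algebraMap k S))) q ↔
      LocCoh.IsCohenMacaulayLocalRing (Localization.AtPrime q.asIdeal) := by
  haveI : q.asIdeal.LiesOver (PrimeSpectrum.comap (algebraMap k S) q).asIdeal := ⟨rfl⟩
  rw [isCMAt_iff, spec_stalkMap_iff (P := fun {R S} _ _ g => RingHom.Flat g) RingHom.Flat.respectsIso (algebraMap k S) q,
    spec_stalkMap_iff respectsIso_cmFibre (algebraMap k S) q, localRingHom_flat_iff]
  have h0 : (Ideal.span (nonunits (Localization.AtPrime (PrimeSpectrum.comap (algebraMap k S) q).asIdeal))).map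
      (Localization.localRingHom (PrimeSpectrum.comap (algebraMap k S) q).asIdeal q.asIdeal (algebraMap k S) (q.asIdeal.over_def _)) = ⊥ := by
    rw [span_nonunits, ← Localization.AtPrime.map_eq_maximalIdeal, eq_bot_iff,
      Ideal.map_le_iff_le_comap, Ideal.map_le_iff_le_comap]
    intro a ha
    have h1 : a = 0 := by
      by_contra hne
      exact (inferInstance : (PrimeSpectrum.comap (algebraMap k S) q).asIdeal.IsPrime).ne_top
        (Ideal.eq_top_of_isUnit_mem _ ha (Ne.isUnit hne))
    subst h1
    simp
  have hfl : Module.Flat k (Localization.AtPrime q.asIdeal) := inferInstance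
  rw [and_iff_right hfl]
  exact cm_congr ((Ideal.quotEquivOfEq h0).trans (RingEquiv.quotientBot _))

theorem flat_away_of_flat_locus {A B : Type u} [CommRing A] [CommRing B] [Algebra A B] (g : B)
    (h : ∀ P : PrimeSpectrum B, g ∉ P.asIdeal → Module.Flat A (Localization.AtPrime P.asIdeal)) :
    Module.Flat A (Localization.Away g) := by
  refine Module.flat_of_isLocalized_maximal (Localization.Away g) (Localization.Away g)
    (fun P _ => Localization.AtPrime P)
    (fun P _ => Algebra.linearMap (Localization.Away g) (Localization.AtPrime P)) fun P hP => ?_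
  let P0 := P.comap (algebraMap B (Localization.Away g))
  haveI : IsLocalization.AtPrime (Localization.AtPrime P) P0 :=
    IsLocalization.isLocalization_isLocalization_atPrime_isLocalization (Submonoid.powers g) _ P
  haveI := h ⟨P0, inferInstance⟩ fun hg =>
    hP.ne_top (P.eq_top_of_isUnit_mem hg (IsLocalization.Away.algebraMap_isUnit g))
  exact Module.Flat.of_linearEquiv
    ((IsLocalization.algEquiv P0.primeCompl (Localization.AtPrime P) (Localization.AtPrime P0)).restrictScalars A).toLinearEquiv

/-- Unramified plus flat at a prime is étale at that prime. -/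
theorem isEtaleAt_of_unramified_flat {A B : Type u} [CommRing A] [CommRing B] [Algebra A B]
    [Algebra.FinitePresentation A B] (q : Ideal B) [q.IsPrime] [Algebra.IsUnramifiedAt A q]
    [Module.Flat A (Localization.AtPrime q)] : Algebra.IsEtaleAt A q := by
  have hopen := FlatLocus.isOpen_flat_locus (R := A) (S := B) (M := B)
  have hloc : ∀ P : PrimeSpectrum B, Module.Flat A (LocalizedModule P.asIdeal.primeCompl B) ↔
      Module.Flat A (Localization.AtPrime P.asIdeal) := fun P => by
    let e := ((IsLocalizedModule.iso P.asIdeal.primeCompl (Algebra.linearMap B (Localization.AtPrime P.asIdeal))).restrictScalars A)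
    exact ⟨fun _ => Module.Flat.of_linearEquiv e.symm, fun _ => Module.Flat.of_linearEquiv e⟩
  simp only [hloc] at hopen
  obtain ⟨_, ⟨g, rfl⟩, hqg, hg⟩ := PrimeSpectrum.isTopologicalBasis_basic_opens.exists_subset_of_mem_open
    (show (⟨q, inferInstance⟩ : PrimeSpectrum B) ∈ _ from (inferInstance : Module.Flat A (Localization.AtPrime q))) hopen
  haveI : Algebra.FinitePresentation A (Localization.Away g) := inferInstance
  haveI := flat_away_of_flat_locus (A := A) g fun P hP => hg hP
  let q' := q.map (algebraMap B (Localization.Away g))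
  have hd : Disjoint (Submonoid.powers g : Set B) (q : Set B) :=
    Set.disjoint_left.2 fun _ ⟨n, hn⟩ hmem => hqg ((inferInstance : q.IsPrime).mem_of_pow_mem n ((show g ^ n = _ from hn) ▸ hmem))
  haveI : q'.IsPrime := IsLocalization.isPrime_of_isPrime_disjoint (Submonoid.powers g) _ q inferInstance hd
  have hc : q'.comap (algebraMap B (Localization.Away g)) = q :=
    IsLocalization.comap_map_of_isPrime_disjoint (Submonoid.powers g) _ inferInstance hd
  haveI := IsLocalization.isLocalization_isLocalization_atPrime_isLocalization (Submonoid.powers g)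
    (Localization.AtPrime q') q'
  simp only [hc] at this
  let e := (IsLocalization.algEquiv q.primeCompl (Localization.AtPrime q) (Localization.AtPrime q')).restrictScalars A
  haveI : Algebra.IsUnramifiedAt A q' := Algebra.FormallyUnramified.of_equiv e
  haveI := Algebra.IsEtaleAt.of_isUnramifiedAt_of_flat (R := A) q'
  exact Algebra.FormallyEtale.of_equiv e.symm

theorem flat_of_unramified_cm {A B : Type u} [CommRing A] [CommRing B] [Algebra A B] [Algebra.EssFiniteType A B]
    [IsNoetherianRing A] [IsNoetherianRing B] (p : Ideal A) [p.IsPrime] (q : Ideal B) [q.IsPrime] [q.LiesOver p]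
    (hdim : ringKrullDim (Localization.AtPrime p) = ringKrullDim (Localization.AtPrime q))
    [IsRegularLocalRing (Localization.AtPrime p)]
    [LocCoh.IsCohenMacaulayLocalRing (Localization.AtPrime q)] [Algebra.IsUnramifiedAt A q] :
    Module.Flat A (Localization.AtPrime q) := by
  letI := Localization.AtPrime.algebraOfLiesOver p q
  have h : ((maximalIdeal (Localization.AtPrime p)).map (algebraMap (Localization.AtPrime p) (Localization.AtPrime q))).radical =
      maximalIdeal _ := by
    rw [← Localization.AtPrime.map_eq_maximalIdeal, Ideal.map_map, ← IsScalarTower.algebraMap_eq,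
      ((Algebra.isUnramifiedAt_iff_map_eq A p q).1 inferInstance).2]
    exact Ideal.IsPrime.radical inferInstance
  haveI := flat_of_cm (Localization.AtPrime p) (Localization.AtPrime q) h hdim.symm
  exact Module.Flat.trans A (Localization.AtPrime p) _

end Groth.Agent.CMFlatLib
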